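import Mathlib.GroupTheory.Subgroup.Center
import Mathlib.Algebra.BigOperators.Group.List.Basic
import Mathlib.Tactic.Group
import Cfsg.Agent.Lib.F4Double.UpperData

/-!
Collection of words in lifts of root elements of F4 over the field with two elements.  A relation holds in a
central extension up to a central value `z`; collection records which values it used.
-/

set_option autoImplicit false

namespace Cfsg.Agent.F4Double

/-- The commutator terms of the pair `p < q`. -/
def tw (p q : ℕ) : List ℕ :=
  let c := Nat.land (Nat.shiftRight twTab (12 * (48 * p + q))) 4095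
  if Nat.beq c 0 then []
  else if Nat.blt c 64 then [c - 1]
  else [c % 64 - 1, c / 64 - 1]

/-- The position of root `r` in an order given by a packed number. -/
def keyAt (K r : ℕ) : ℕ := Nat.land (Nat.shiftRight K (6 * r)) 63

/-- The logged values: an index and an exponent. -/
abbrev Log : Type := List (ℕ × ℤ)

/-- The state of collection: the collected word backwards, the input and the log. -/
abbrev St : Type := List ℕ × List ℕ × Log

/-- One step of collection. -/
def step (K : ℕ) : St → St
  | (w, [], L) => (w, [], L)
  | ([], x :: rest, L) => ([x], rest, L)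
  | (b :: w, x :: rest, L) =>
    if Nat.beq b x && Nat.blt b 48 then (w, rest, (49 * b, 1) :: L)
    else if Nat.blt (keyAt K b) (keyAt K x) then (x :: b :: w, rest, L)
    else if Nat.blt x b && Nat.blt b 48 && !Nat.beq (x + b) 47 then
      (w, [x, b] ++ tw x b ++ rest, (48 * x + b, 1) :: L)
    else if Nat.blt b x && Nat.blt x 48 && !Nat.beq (x + b) 47 && (tw b x).all fun u => Nat.blt u 48 then
      (w, [x, b] ++ (tw b x).reverse ++ rest,
        (48 * b + x, -1) :: ((tw b x).map fun u => ((49 * u : ℕ), (-1 : ℤ))) ++ L)
    else (x :: b :: w, rest, L)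

/-- Collection for at most `n` steps. -/
def run (K : ℕ) : ℕ → St → St
  | 0, s => s
  | n + 1, s =>
    match s.2.1 with
    | [] => s
    | _ :: _ => run K n (step K s)

/-- The log of a word that collects to the empty word. -/
def collect (K : ℕ) (w : List ℕ) : Option Log :=
  match run K 300 ([], w, []) with
  | ([], [], L) => some L
  | _ => none

section Sound

variable {Γ : Type*} [Group Γ] (Y : ℕ → Γ) (z : ℕ → ↥(Subgroup.center Γ))

/-- The lifts satisfy the relations up to the values `z`. -/
structure Rels : Prop where
  sq : ∀ r < 48, Y r * Y r = z (49 * r)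
  comm : ∀ p q : ℕ, p < q → q < 48 → p + q ≠ 47 →
    Y q * Y p = z (48 * p + q) * (Y p * Y q * ((tw p q).map Y).prod)

/-- The value of a log. -/
def logVal (L : Log) : ↥(Subgroup.center Γ) := (L.map fun e => z e.1 ^ e.2).prod

/-- The value of a word. -/
def wordVal (w : List ℕ) : Γ := (w.map Y).prod

/-- The value of a state. -/
def stVal (s : St) : Γ := (logVal z s.2.2 : Γ) * (wordVal Y s.1.reverse * wordVal Y s.2.1)

variable {Y z}

@[simp] theorem logVal_cons (e : ℕ × ℤ) (L : Log) : logVal z (e :: L) = z e.1 ^ e.2 * logVal z L := rfl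

theorem logVal_append (L M : Log) : logVal z (L ++ M) = logVal z L * logVal z M := by
  simp [logVal, List.map_append, List.prod_append]

@[simp] theorem wordVal_nil : wordVal Y ([] : List ℕ) = 1 := rfl

@[simp] theorem wordVal_cons (a : ℕ) (w : List ℕ) : wordVal Y (a :: w) = Y a * wordVal Y w := rfl

theorem wordVal_append (u v : List ℕ) : wordVal Y (u ++ v) = wordVal Y u * wordVal Y v := by
  simp [wordVal, List.map_append, List.prod_append]

theorem central_comm (c : ↥(Subgroup.center Γ)) (x : Γ) : (c : Γ) * x = x * c :=
  (Subgroup.mem_center_iff.1 c.2 x).symm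

theorem central_left_comm (c : ↥(Subgroup.center Γ)) (x y : Γ) : x * ((c : Γ) * y) = (c : Γ) * (x * y) := by
  rw [← mul_assoc, ← central_comm, mul_assoc]

/-- A word of lifts backwards is, up to values, its inverse. -/
theorem wordVal_reverse (h : Rels Y z) : ∀ {w : List ℕ}, (∀ u ∈ w, u < 48) →
    (logVal z (w.map fun u => ((49 * u : ℕ), (-1 : ℤ))) : Γ) * wordVal Y w.reverse = (wordVal Y w)⁻¹ := by
  intro w
  induction w with
  | nil => intro _; simp [logVal]
  | cons a w ih =>
    intro hw
    have e := ih fun u hu => hw u (List.mem_cons_of_mem _ hu)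
    have ha := h.sq a (hw a List.mem_cons_self)
    rw [List.map_cons, logVal_cons, List.reverse_cons, wordVal_append, wordVal_cons, wordVal_nil, mul_one,
      wordVal_cons, mul_inv_rev, ← e]
    have hinv : (Y a)⁻¹ = ((z (49 * a))⁻¹ : ↥(Subgroup.center Γ)) * Y a := by
      rw [eq_comm, ← mul_eq_one_iff_eq_inv, mul_assoc, ha, Subgroup.coe_inv, inv_mul_cancel]
    rw [hinv, Subgroup.coe_mul, zpow_neg_one, central_left_comm]
    simp only [mul_assoc]

theorem stVal_step (h : Rels Y z) (K : ℕ) : ∀ s : St, stVal Y z (step K s) = stVal Y z s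
  | (w, [], L) => rfl
  | ([], x :: rest, L) => by simp [step, stVal]
  | (b :: w, x :: rest, L) => by
    have hpush : stVal Y z (x :: b :: w, rest, L) = stVal Y z (b :: w, x :: rest, L) := by
      simp [stVal, wordVal_append, mul_assoc]
    simp only [step]
    split
    · rename_i h1
      simp only [Bool.and_eq_true, Nat.beq_eq, Nat.blt_eq] at h1
      obtain ⟨rfl, hb⟩ := h1
      simp only [stVal, logVal_cons, List.reverse_cons, wordVal_append, wordVal_cons, wordVal_nil, mul_one,
        zpow_one, Subgroup.coe_mul, mul_assoc]
      rw [show ∀ t : Γ, Y b * (Y b * t) = (z (49 * b) : Γ) * t from fun t => by rw [← mul_assoc, h.sq b hb]]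
      simp only [central_left_comm (z (49 * b))]
    split
    · exact hpush
    split
    · rename_i h1
      simp only [Bool.and_eq_true, Nat.blt_eq, Bool.not_eq_true', ← Bool.not_eq_true, Nat.beq_eq] at h1
      obtain ⟨⟨hxb, hb⟩, hne⟩ := h1
      simp only [stVal, logVal_cons, List.cons_append, List.nil_append, List.reverse_cons, wordVal_append,
        wordVal_cons, wordVal_nil, mul_one, zpow_one, Subgroup.coe_mul, mul_assoc]
      rw [show ∀ t : Γ, Y b * (Y x * t) = (z (48 * x + b) : Γ) * (Y x * (Y b * (wordVal Y (tw x b) * t))) from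
        fun t => by rw [← mul_assoc, h.comm x b hxb hb hne]; simp only [wordVal, mul_assoc]]
      simp only [central_left_comm (z (48 * x + b))]
    split
    · rename_i h1
      simp only [Bool.and_eq_true, Nat.blt_eq, Bool.not_eq_true', ← Bool.not_eq_true, Nat.beq_eq,
        List.all_eq_true] at h1
      obtain ⟨⟨⟨hbx, hx⟩, hne⟩, ht⟩ := h1
      have e := h.comm b x hbx hx (by omega)
      have hr := wordVal_reverse h ht
      have key : Y b * Y x = ((z (48 * b + x) : Γ))⁻¹ * (Y x * Y b *
          ((logVal z ((tw b x).map fun u => ((49 * u : ℕ), (-1 : ℤ))) : Γ) *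
            wordVal Y (tw b x).reverse)) := by
        rw [hr, e]
        simp [wordVal, mul_assoc]
      simp only [stVal, logVal_cons, logVal_append, List.cons_append, List.nil_append, List.reverse_cons,
        wordVal_append, wordVal_cons, wordVal_nil, mul_one, zpow_neg_one, Subgroup.coe_mul, Subgroup.coe_inv,
        mul_assoc]
      rw [show ∀ t : Γ, Y b * (Y x * t) = Y b * Y x * t from fun t => (mul_assoc _ _ _).symm, key,
        ← Subgroup.coe_inv]
      simp only [mul_assoc]
      simp only [central_left_comm (z (48 * b + x))⁻¹]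
      simp only [central_left_comm (logVal z ((tw b x).map fun u => ((49 * u : ℕ), (-1 : ℤ))))]
    · exact hpush

theorem stVal_run (h : Rels Y z) (K : ℕ) : ∀ n s, stVal Y z (run K n s) = stVal Y z s := by
  intro n
  induction n with
  | zero => intro s; rfl
  | succ n ih =>
    intro s
    unfold run
    split
    · rfl
    · rw [ih, stVal_step h]

theorem collect_spec (h : Rels Y z) {K : ℕ} {w : List ℕ} {L : Log} (hc : collect K w = some L) :
    wordVal Y w = (logVal z L : Γ) := by
  unfold collect at hc
  split at hc
  · rename_i L' e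
    obtain rfl := Option.some.inj hc
    have := stVal_run h K 300 ([], w, [])
    rw [e] at this
    simpa [stVal, logVal] using this.symm
  · exact absurd hc (by simp)

end Sound

end Cfsg.Agent.F4Double
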