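import Mathlib.Data.Int.Basic
import Cfsg.Agent.Lib.F4Double.Collect

/-!
Conjugating a relation by a root element gives a linear equation between the relation values.  The recorded
derivation expresses all values in four of them, and further equations leave one value of order at most two.
-/

set_option autoImplicit false
set_option maxRecDepth 100000

namespace Cfsg.Agent.F4Double

/-- The word of the relation of `p`, `q`. -/
def relWord (p q : ℕ) : List ℕ :=
  if Nat.beq p q then [p, p] else [q, p] ++ (tw p q).reverse ++ [q, p]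

/-- Add a term to a log without repetitions. -/
def addTerm (e : ℕ × ℤ) : Log → Log
  | [] => if decide (e.2 = 0) then [] else [e]
  | f :: L =>
    if Nat.beq e.1 f.1 then (if decide (f.2 + e.2 = 0) then L else (f.1, f.2 + e.2) :: L)
    else f :: addTerm e L

/-- Collect equal indices of a log. -/
def merge : Log → Log
  | [] => []
  | e :: L => addTerm e (merge L)

/-- The equation from conjugating the relation of `p`, `q` by root `t`. -/
def eqLog (p q t k : ℕ) : Option Log :=
  match collect (keyTab.getD k 0) (relWord p q), collect (keyTab.getD k 0) ([t] ++ relWord p q ++ [t]) with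
  | some L0, some L1 => if Nat.blt t 48 then some (merge ((49 * t, -1) :: (L1 ++ L0.map fun e => (e.1, -e.2)))) else none
  | _, _ => none

/-- Position in the derivation. -/
def rankOf (v : ℕ) : ℕ := if Nat.blt v 2304 then Nat.land (Nat.shiftRight rankTab (11 * v)) 2047 else 2047

/-- Four exponents. -/
abbrev Quad : Type := ℤ × ℤ × ℤ × ℤ

/-- An exponent in the expression of a value. -/
def solAt (v j : ℕ) : ℤ :=
  (Nat.land (Nat.shiftRight solTab (160 * v + 40 * j)) 1099511627775 : ℕ) - (549755813888 : ℤ)

/-- The expression of a value. -/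
def solOf (v : ℕ) : Quad := (solAt v 0, solAt v 1, solAt v 2, solAt v 3)

/-- Split an equation into the exponent of `v` and the sum of the other, earlier terms. -/
def evalLog (v i : ℕ) : Log → Option (ℤ × Quad)
  | [] => some (0, 0, 0, 0, 0)
  | e :: L =>
    match evalLog v i L with
    | none => none
    | some (c, a, b, d, f) =>
      if Nat.beq e.1 v then some (c + e.2, a, b, d, f)
      else if Nat.blt (rankOf e.1) i then
        some (c, a + e.2 * solAt e.1 0, b + e.2 * solAt e.1 1, d + e.2 * solAt e.1 2, f + e.2 * solAt e.1 3)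
      else none

/-- The index of the value belonging to the chosen pair of root `r`. -/
def gaugeVar (r : ℕ) : ℕ :=
  let g := gaugeTab.getD r (0, 0, [], [])
  48 * g.1 + g.2.1

/-- The four values. -/
def symVar (j : ℕ) : ℕ := [446, 4, 208, 177].getD j 0

/-- The exponent row of the four values. -/
def unitQuad (j : ℕ) : Quad :=
  (if Nat.beq j 0 then 1 else 0, if Nat.beq j 1 then 1 else 0, if Nat.beq j 2 then 1 else 0,
    if Nat.beq j 3 then 1 else 0)

/-- The check of one entry of the derivation. -/
def stepOK (i : ℕ) (e : ℕ × ℕ × ℕ × ℕ × ℕ) : Bool :=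
  match e with
  | (v, p, q, t, k) =>
    Nat.beq (rankOf v) i &&
    if Nat.beq k 1000 then Nat.blt p 48 && Nat.beq v (gaugeVar p) && decide (solOf v = ((0, 0, 0, 0) : Quad))
    else if Nat.beq k 2000 then Nat.blt p 4 && Nat.beq v (symVar p) && decide (solOf v = unitQuad p)
    else
      match eqLog p q t k with
      | none => false
      | some L =>
        match evalLog v i L with
        | none => false
        | some (c, a, b, d, f) =>
          decide ((c = 1 ∨ c = -1) ∧ c * solAt v 0 + a = 0 ∧ c * solAt v 1 + b = 0 ∧ c * solAt v 2 + d = 0 ∧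
            c * solAt v 3 + f = 0)

/-- The check of a part of the derivation. -/
def stepsOK : ℕ → List (ℕ × ℕ × ℕ × ℕ × ℕ) → Bool
  | _, [] => true
  | i, e :: L => stepOK i e && stepsOK (i + 1) L

/-- An equation between the four values. -/
def consOK (p q t k : ℕ) (a b d f : ℤ) : Bool :=
  match eqLog p q t k with
  | none => false
  | some L =>
    match evalLog 2304 1152 L with
    | none => false
    | some r => decide (r = (0, a, b, d, f))

section Sound

variable {Γ : Type*} [Group Γ] {Y : ℕ → Γ} {z : ℕ → ↥(Subgroup.center Γ)}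

/-- A combination of the four values. -/
def comb (z : ℕ → ↥(Subgroup.center Γ)) (a : Quad) : ↥(Subgroup.center Γ) :=
  z 446 ^ a.1 * z 4 ^ a.2.1 * z 208 ^ a.2.2.1 * z 177 ^ a.2.2.2

theorem center_comm (a b : ↥(Subgroup.center Γ)) : a * b = b * a :=
  Subtype.ext (central_comm a b)

theorem comb_zero : comb z (0, 0, 0, 0) = 1 := by simp [comb]

theorem comb_add_smul (a b d f n x y u w : ℤ) :
    comb z (a + n * x, b + n * y, d + n * u, f + n * w) = comb z (a, b, d, f) * comb z (x, y, u, w) ^ n := by
  have hm : ∀ (p q : ↥(Subgroup.center Γ)) (k : ℤ), (p * q) ^ k = p ^ k * q ^ k := fun p q k =>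
    Commute.mul_zpow (show Commute p q from center_comm p q) k
  have mm : ∀ p q r t : ↥(Subgroup.center Γ), (p * q) * (r * t) = (p * r) * (q * t) := fun p q r t => by
    rw [mul_assoc, ← mul_assoc q, center_comm q r, mul_assoc, ← mul_assoc]
  simp only [comb, hm, ← zpow_mul]
  rw [zpow_add, zpow_add, zpow_add, zpow_add, mul_comm n x, mul_comm n y, mul_comm n u, mul_comm n w,
    mm (z 446 ^ a) (z 446 ^ (x * n)) (z 4 ^ b), mm (z 446 ^ a * z 4 ^ b), mm (z 446 ^ a * z 4 ^ b * z 208 ^ d)]

theorem logVal_neg (L : Log) : logVal z (L.map fun e => (e.1, -e.2)) = (logVal z L)⁻¹ := by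
  induction L with
  | nil => simp [logVal]
  | cons e L ih =>
    rw [List.map_cons, logVal_cons, logVal_cons, ih, zpow_neg, mul_inv_rev, center_comm]

theorem logVal_addTerm (e : ℕ × ℤ) : ∀ L : Log, logVal z (addTerm e L) = z e.1 ^ e.2 * logVal z L := by
  intro L
  induction L with
  | nil =>
    unfold addTerm
    split
    · rename_i h
      simp [of_decide_eq_true h, logVal]
    · rfl
  | cons f L ih =>
    unfold addTerm
    split
    · rename_i h
      rw [Nat.eq_of_beq_eq_true h, logVal_cons, ← mul_assoc, ← zpow_add, add_comm e.2]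
      split
      · rename_i h0
        rw [of_decide_eq_true h0, zpow_zero, one_mul]
      · rw [logVal_cons]
    · rw [logVal_cons, ih, logVal_cons, ← mul_assoc, ← mul_assoc, center_comm (z f.1 ^ f.2)]

theorem logVal_merge : ∀ L : Log, logVal z (merge L) = logVal z L := by
  intro L
  induction L with
  | nil => rfl
  | cons e L ih => rw [merge, logVal_addTerm, ih, logVal_cons]

theorem eqLog_spec (h : Rels Y z) {p q t k : ℕ} {L : Log} (he : eqLog p q t k = some L) : logVal z L = 1 := by
  unfold eqLog at he
  split at he
  · rename_i L0 L1 h0 h1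
    split at he
    · rename_i ht
      obtain rfl := Option.some.inj he
      have e0 := collect_spec h h0
      have e1 := collect_spec h h1
      have hs := h.sq t (Nat.blt_eq.mp ht)
      rw [wordVal_append, wordVal_append, e0, wordVal_cons, wordVal_nil, mul_one, ← central_comm (logVal z L0) (Y t),
        mul_assoc, hs] at e1
      refine (logVal_merge _).trans (Subtype.ext ?_)
      simp only [logVal_cons, logVal_append, logVal_neg, zpow_neg_one, Subgroup.coe_mul, Subgroup.coe_inv,
        Subgroup.coe_one]
      rw [← e1, mul_assoc, central_comm (z (49 * t)), mul_inv_cancel_left, inv_mul_cancel]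
    · exact absurd he (by simp)
  · exact absurd he (by simp)

theorem evalLog_spec (v i : ℕ) (hlt : ∀ u, rankOf u < i → z u = comb z (solOf u)) :
    ∀ (L : Log) (c a b d f : ℤ), evalLog v i L = some (c, a, b, d, f) →
      logVal z L = z v ^ c * comb z (a, b, d, f) := by
  intro L
  induction L with
  | nil =>
    intro c a b d f h
    simp only [evalLog, Option.some.injEq, Prod.mk.injEq] at h
    obtain ⟨rfl, rfl, rfl, rfl, rfl⟩ := h
    simp [logVal, comb_zero]
  | cons e L ih =>
    intro c a b d f h
    unfold evalLog at h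
    split at h
    · exact absurd h (by simp)
    · rename_i c' a' b' d' f' he
      have hih := ih _ _ _ _ _ he
      split at h
      · rename_i hv
        simp only [Option.some.injEq, Prod.mk.injEq] at h
        obtain ⟨rfl, rfl, rfl, rfl, rfl⟩ := h
        rw [logVal_cons, hih, Nat.eq_of_beq_eq_true hv, ← mul_assoc, ← zpow_add, add_comm]
      · split at h
        · rename_i hr
          simp only [Option.some.injEq, Prod.mk.injEq] at h
          obtain ⟨rfl, rfl, rfl, rfl, rfl⟩ := h
          rw [logVal_cons, hih, hlt _ (Nat.blt_eq.mp hr), solOf, comb_add_smul,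
            center_comm _ (z v ^ c' * _), mul_assoc]
        · exact absurd h (by simp)

/-- The four values are combinations of themselves. -/
theorem sym_spec {j : ℕ} (hj : j < 4) : z (symVar j) = comb z (unitQuad j) := by
  have : j = 0 ∨ j = 1 ∨ j = 2 ∨ j = 3 := by omega
  rcases this with rfl | rfl | rfl | rfl <;> simp [symVar, comb, unitQuad]

theorem stepOK_spec (h : Rels Y z) (hg : ∀ r < 48, z (gaugeVar r) = 1) {i : ℕ} {e : ℕ × ℕ × ℕ × ℕ × ℕ}
    (he : stepOK i e = true) (hlt : ∀ u, rankOf u < i → z u = comb z (solOf u)) :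
    rankOf e.1 = i ∧ z e.1 = comb z (solOf e.1) := by
  obtain ⟨v, p, q, t, k⟩ := e
  simp only [stepOK, Bool.and_eq_true, Nat.beq_eq] at he
  obtain ⟨hr, he⟩ := he
  refine ⟨hr, ?_⟩
  show z v = comb z (solOf v)
  split at he
  · simp only [Bool.and_eq_true, Nat.beq_eq, Nat.blt_eq, decide_eq_true_eq] at he
    obtain ⟨⟨hp, hv⟩, hs⟩ := he
    rw [hs, comb_zero, hv, hg p hp]
  split at he
  · simp only [Bool.and_eq_true, Nat.beq_eq, Nat.blt_eq, decide_eq_true_eq] at he
    obtain ⟨⟨hp, hv⟩, hs⟩ := he
    rw [hs, hv, sym_spec (z := z) hp]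
  split at he
  · exact absurd he (by simp)
  rename_i L hL
  split at he
  · exact absurd he (by simp)
  rename_i c a b d f hev
  simp only [decide_eq_true_eq] at he
  obtain ⟨hc, ha, hb, hd, hf⟩ := he
  have hcc : c * c = 1 := by rcases hc with rfl | rfl <;> rfl
  have e1 := eqLog_spec h hL
  rw [evalLog_spec v i hlt L c a b d f hev] at e1
  have e2 : z v ^ c = (comb z (a, b, d, f))⁻¹ := eq_inv_of_mul_eq_one_left e1
  have e3 : (comb z (a, b, d, f))⁻¹ = comb z (solOf v) ^ c := by
    rw [inv_eq_iff_mul_eq_one, solOf, ← comb_add_smul, show a + c * solAt v 0 = 0 by omega,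
      show b + c * solAt v 1 = 0 by omega, show d + c * solAt v 2 = 0 by omega,
      show f + c * solAt v 3 = 0 by omega, comb_zero]
  have e4 := congrArg (fun x : ↥(Subgroup.center Γ) => x ^ c) (e2.trans e3)
  simpa [← zpow_mul, hcc] using e4

theorem stepsOK_spec (h : Rels Y z) (hg : ∀ r < 48, z (gaugeVar r) = 1) :
    ∀ (L : List (ℕ × ℕ × ℕ × ℕ × ℕ)) (i : ℕ), stepsOK i L = true →
      ∀ j, j < L.length → (∀ u, rankOf u < i + j → z u = comb z (solOf u)) →
        rankOf (L.getD j (0, 0, 0, 0, 0)).1 = i + j ∧
          z (L.getD j (0, 0, 0, 0, 0)).1 = comb z (solOf (L.getD j (0, 0, 0, 0, 0)).1) := by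
  intro L
  induction L with
  | nil => intro i _ j hj; simp at hj
  | cons e L ih =>
    intro i hL j hj hlt
    simp only [stepsOK, Bool.and_eq_true] at hL
    cases j with
    | zero => simpa using stepOK_spec h hg hL.1 (by simpa using hlt)
    | succ j =>
      have := ih (i + 1) hL.2 j (by simpa using hj) (fun u hu => hlt u (by omega))
      simpa [show i + (j + 1) = i + 1 + j by omega] using this

theorem cons_spec (h : Rels Y z) (hz : ∀ u, rankOf u < 1152 → z u = comb z (solOf u)) {p q t k : ℕ}
    {a b d f : ℤ} (hc : consOK p q t k a b d f = true) : comb z (a, b, d, f) = 1 := by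
  unfold consOK at hc
  split at hc
  · exact absurd hc (by simp)
  rename_i L hL
  split at hc
  · exact absurd hc (by simp)
  rename_i r hev
  obtain rfl := of_decide_eq_true hc
  have e1 := eqLog_spec h hL
  rw [evalLog_spec 2304 1152 hz L 0 a b d f hev, zpow_zero, one_mul] at e1
  exact e1

end Sound

end Cfsg.Agent.F4Double
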