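import Mathlib.Algebra.Group.Subgroup.ZPowers.Basic
import Mathlib.Tactic.NormNum
import Cfsg.Agent.Lib.F4Double.Derive

/-! All relation values of a central extension are powers of one of them, of order at most two. -/

set_option autoImplicit false
set_option maxRecDepth 100000
set_option Elab.async false

namespace Cfsg.Agent.F4Double

theorem steps0 : stepsOK 0 stepTab0 = true ∧ stepTab0.length = 144 := by decide +kernel

theorem steps1 : stepsOK 144 stepTab1 = true ∧ stepTab1.length = 144 := by decide +kernel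

theorem steps2 : stepsOK 288 stepTab2 = true ∧ stepTab2.length = 144 := by decide +kernel

theorem steps3 : stepsOK 432 stepTab3 = true ∧ stepTab3.length = 144 := by decide +kernel

theorem steps4 : stepsOK 576 stepTab4 = true ∧ stepTab4.length = 144 := by decide +kernel

theorem steps5 : stepsOK 720 stepTab5 = true ∧ stepTab5.length = 144 := by decide +kernel

theorem steps6 : stepsOK 864 stepTab6 = true ∧ stepTab6.length = 144 := by decide +kernel

theorem steps7 : stepsOK 1008 stepTab7 = true ∧ stepTab7.length = 144 := by decide +kernel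

theorem cons_a2 : consOK 0 9 14 4 (2) (0) (0) (0) = true := by decide +kernel

theorem cons_b2 : consOK 0 43 16 14 (0) (-2) (0) (0) = true := by decide +kernel

theorem cons_b3 : consOK 24 43 46 1 (0) (3) (0) (0) = true := by decide +kernel

theorem cons_d4 : consOK 1 4 0 3 (0) (0) (4) (0) = true := by decide +kernel

theorem cons_d6 : consOK 4 23 16 3 (0) (-1) (-6) (0) = true := by decide +kernel

theorem cons_d1 : consOK 0 46 42 54 (-885722) (14381) (-31743) (0) = true := by decide +kernel

theorem cons_a1 : consOK 5 10 15 3 (-4591) (907) (-396) (0) = true := by decide +kernel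

theorem cons_f2 : consOK 24 33 3 27 (856533) (-224435) (87342) (-2) = true := by decide +kernel

/-- The entry at position `i` of the derivation. -/
def stepAt (i : ℕ) : ℕ × ℕ × ℕ × ℕ × ℕ :=
  ([stepTab0, stepTab1, stepTab2, stepTab3, stepTab4, stepTab5, stepTab6, stepTab7].getD (i / 144) []).getD
    (i % 144) (0, 0, 0, 0, 0)

/-- Every value with a position occurs there. -/
def coverOK : Bool :=
  (List.range 2304).all fun v => !Nat.blt (rankOf v) 1152 || Nat.beq (stepAt (rankOf v)).1 v

/-- Every value of a relation has a position. -/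
def validOK : Bool :=
  (List.range 48).all fun p => (List.range 48).all fun q =>
    !(Nat.ble p q) || Nat.beq (p + q) 47 || Nat.blt (rankOf (48 * p + q)) 1152

theorem coverOK_eq : coverOK = true := by decide +kernel

theorem validOK_eq : validOK = true := by decide +kernel

section Sound

variable {Γ : Type*} [Group Γ] {Y : ℕ → Γ} {z : ℕ → ↥(Subgroup.center Γ)}

theorem stepAt_spec (h : Rels Y z) (hg : ∀ r < 48, z (gaugeVar r) = 1) {i : ℕ} (hi : i < 1152)
    (hlt : ∀ u, rankOf u < i → z u = comb z (solOf u)) :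
    rankOf (stepAt i).1 = i ∧ z (stepAt i).1 = comb z (solOf (stepAt i).1) := by
  have key : ∀ (T : List (ℕ × ℕ × ℕ × ℕ × ℕ)) (k : ℕ), stepsOK (144 * k) T = true ∧ T.length = 144 →
      i / 144 = k → rankOf (T.getD (i % 144) (0, 0, 0, 0, 0)).1 = i ∧
        z (T.getD (i % 144) (0, 0, 0, 0, 0)).1 = comb z (solOf (T.getD (i % 144) (0, 0, 0, 0, 0)).1) := by
    rintro T k ⟨h1, h2⟩ rfl
    have := stepsOK_spec h hg T (144 * (i / 144)) h1 (i % 144) (h2 ▸ Nat.mod_lt _ (by omega))
      (by rw [Nat.div_add_mod]; exact hlt)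
    rwa [Nat.div_add_mod] at this
  have h8 : i / 144 = 0 ∨ i / 144 = 1 ∨ i / 144 = 2 ∨ i / 144 = 3 ∨ i / 144 = 4 ∨ i / 144 = 5 ∨
      i / 144 = 6 ∨ i / 144 = 7 := by omega
  unfold stepAt
  rcases h8 with e | e | e | e | e | e | e | e <;> rw [e]
  · exact key stepTab0 0 steps0 e
  · exact key stepTab1 1 steps1 e
  · exact key stepTab2 2 steps2 e
  · exact key stepTab3 3 steps3 e
  · exact key stepTab4 4 steps4 e
  · exact key stepTab5 5 steps5 e
  · exact key stepTab6 6 steps6 e
  · exact key stepTab7 7 steps7 e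

theorem eq_comb (h : Rels Y z) (hg : ∀ r < 48, z (gaugeVar r) = 1) :
    ∀ u, rankOf u < 1152 → z u = comb z (solOf u) := by
  suffices ∀ i, ∀ u, rankOf u = i → i < 1152 → z u = comb z (solOf u) from fun u hu => this _ u rfl hu
  intro i
  induction i using Nat.strong_induction_on with
  | _ i ih =>
    intro u hu hi
    have hlt : ∀ v, rankOf v < i → z v = comb z (solOf v) := fun v hv => ih _ hv v rfl (by omega)
    have hu' : u < 2304 := by
      by_contra hc
      have : rankOf u = 2047 := by rw [rankOf, if_neg (by simpa [Nat.blt_eq] using hc)]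
      omega
    have hc := List.all_eq_true.mp coverOK_eq u (List.mem_range.mpr hu')
    simp only [Bool.or_eq_true, Bool.not_eq_true', ← Bool.not_eq_true, Nat.blt_eq, Nat.beq_eq, hu, hi,
      not_true, false_or] at hc
    have := (stepAt_spec h hg hi hlt).2
    rwa [hc] at this

theorem zpow_even {G : Type*} [Group G] {x : G} (hx : x * x = 1) {m : ℤ} (hm : m % 2 = 0) : x ^ m = 1 := by
  obtain ⟨k, rfl⟩ := Int.dvd_of_emod_eq_zero hm
  rw [zpow_mul, zpow_two, hx, one_zpow]

theorem zpow_odd {G : Type*} [Group G] {x : G} (hx : x * x = 1) {m : ℤ} (hm : m % 2 = 1) : x ^ m = x := by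
  rw [show m = m - 1 + 1 by omega, zpow_add_one, zpow_even hx (by omega), one_mul]

/-- All relation values are powers of the value of the pair 3, 33, whose square is trivial. -/
theorem values_two (h : Rels Y z) (hg : ∀ r < 48, z (gaugeVar r) = 1) :
    z 177 * z 177 = 1 ∧
      ∀ p q : ℕ, p ≤ q → q < 48 → p + q ≠ 47 → z (48 * p + q) ∈ Subgroup.zpowers (z 177) := by
  have hz := eq_comb h hg
  have e_a2 := cons_spec h hz cons_a2
  have e_b2 := cons_spec h hz cons_b2
  have e_b3 := cons_spec h hz cons_b3
  have e_d4 := cons_spec h hz cons_d4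
  have e_d6 := cons_spec h hz cons_d6
  have e_d1 := cons_spec h hz cons_d1
  have e_a1 := cons_spec h hz cons_a1
  have e_f2 := cons_spec h hz cons_f2
  simp only [comb, zpow_zero, one_mul, mul_one] at e_a2 e_b2 e_b3 e_d4 e_d6 e_d1 e_a1 e_f2
  have ha2 : z 446 * z 446 = 1 := by rw [← zpow_two]; exact e_a2
  have hb : z 4 = 1 := by
    have h2 : z 4 ^ (2 : ℤ) = 1 := by rw [← inv_inj, ← zpow_neg, inv_one]; exact e_b2
    rw [show (3 : ℤ) = 2 + 1 from rfl, zpow_add_one, h2, one_mul] at e_b3
    exact e_b3
  rw [hb] at e_d6 e_d1 e_a1 e_f2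
  simp only [one_zpow, one_mul, mul_one] at e_d6 e_d1 e_a1 e_f2
  have hd2 : z 208 * z 208 = 1 := by
    rw [← zpow_two, show (2 : ℤ) = 4 * 2 + (-6) from rfl, zpow_add, zpow_mul, e_d4, one_zpow, one_mul]
    exact e_d6
  have hd : z 208 = 1 := by
    rw [zpow_even ha2 (by norm_num), zpow_odd hd2 (by norm_num), one_mul] at e_d1
    exact e_d1
  rw [hd] at e_a1 e_f2
  simp only [one_zpow, mul_one] at e_a1 e_f2
  have ha : z 446 = 1 := by
    rw [zpow_odd ha2 (by norm_num)] at e_a1
    exact e_a1
  rw [ha] at e_f2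
  simp only [one_zpow, one_mul] at e_f2
  refine ⟨by rw [← zpow_two, ← inv_inj, ← zpow_neg, inv_one]; exact e_f2, fun p q hpq hq hne => ?_⟩
  have hv : rankOf (48 * p + q) < 1152 := by
    have hc := List.all_eq_true.mp (List.all_eq_true.mp validOK_eq p (List.mem_range.mpr (by omega))) q
      (List.mem_range.mpr hq)
    simpa [Nat.blt_eq, Nat.ble_eq.mpr hpq, hne, Nat.beq_eq] using hc
  rw [hz _ hv, comb, ha, hb, hd]
  simp only [one_zpow, one_mul]
  exact Subgroup.zpow_mem_zpowers _ _

end Sound

end Cfsg.Agent.F4Double
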