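import Mathlib.Data.Matrix.Basic
import Mathlib.Data.Matrix.Mul
import Mathlib.Data.ZMod.Basic
import Mathlib.Algebra.BigOperators.Fin
import Mathlib.Data.Nat.Bitwise

/-!
Matrices of size 52 over the field with five elements, a whole matrix being packed into one number with
sixteen bits to the entry, row after row, so that a product takes 52 multiplications in the kernel.
-/

set_option autoImplicit false
set_option maxRecDepth 100000

namespace Cfsg.Agent.F4Double.Mat

noncomputable section

/-- Square matrices of size 52 over the field with five elements. -/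
abbrev M52 : Type := Matrix (Fin 52) (Fin 52) (ZMod 5)

/-- Entry `j` of a packed list. -/
def lane (v j : ℕ) : ℕ := Nat.land (Nat.shiftRight v (Nat.mul 16 j)) 65535

theorem lane_eq (v j : ℕ) : lane v j = v / 65536 ^ j % 65536 := by
  show (v >>> (16 * j)) &&& 65535 = _
  rw [show (65535 : ℕ) = 2 ^ 16 - 1 by norm_num, Nat.and_two_pow_sub_one_eq_mod,
    Nat.shiftRight_eq_div_pow, pow_mul]
  norm_num

theorem lane_lt (v j : ℕ) : lane v j < 65536 := by
  rw [lane_eq]
  exact Nat.mod_lt _ (by omega)

/-- Pack `f 0, …, f (n-1)`. -/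
def packF (f : ℕ → ℕ) (n : ℕ) : ℕ :=
  Nat.rec 0 (fun i r => Nat.add r (Nat.shiftLeft (f i) (Nat.mul 16 i))) n

theorem packF_succ (f : ℕ → ℕ) (n : ℕ) : packF f (n + 1) = packF f n + f n * 65536 ^ n := by
  show packF f n + (f n <<< (16 * n)) = _
  rw [Nat.shiftLeft_eq, pow_mul]
  norm_num

theorem packF_lt {f : ℕ → ℕ} : ∀ {n : ℕ}, (∀ i < n, f i < 65536) → packF f n < 65536 ^ n := by
  intro n
  induction n with
  | zero => intro _; simp [packF]
  | succ n ih =>
    intro h
    have h1 := ih fun i hi => h i (by omega)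
    have h2 : f n * 65536 ^ n ≤ 65535 * 65536 ^ n :=
      Nat.mul_le_mul_right _ (Nat.le_of_lt_succ (h n (by omega)))
    rw [packF_succ, pow_succ]
    omega

theorem lane_packF {f : ℕ → ℕ} : ∀ {n : ℕ}, (∀ i < n, f i < 65536) → ∀ j < n, lane (packF f n) j = f j := by
  intro n
  induction n with
  | zero => intro _ j hj; omega
  | succ n ih =>
    intro h j hj
    rw [lane_eq, packF_succ]
    rcases Nat.lt_succ_iff_lt_or_eq.1 hj with hj' | rfl
    · have := ih (fun i hi => h i (by omega)) j hj'
      rw [lane_eq] at this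
      obtain ⟨d, rfl⟩ : ∃ d, n = j + 1 + d := ⟨n - (j + 1), by omega⟩
      rw [show f (j + 1 + d) * 65536 ^ (j + 1 + d) = 65536 ^ j * (f (j + 1 + d) * 65536 ^ d * 65536) by
        rw [pow_add, pow_succ]; ring, Nat.add_mul_div_left _ _ (Nat.pow_pos (by norm_num)), Nat.add_mul_mod_self_right]
      exact this
    · rw [Nat.add_mul_div_right _ _ (Nat.pow_pos (by norm_num)),
        Nat.div_eq_of_lt (packF_lt fun i hi => h i (by omega)), Nat.zero_add, Nat.mod_eq_of_lt (h j hj)]

theorem packF_lane : ∀ (n v : ℕ), v < 65536 ^ n → packF (lane v) n = v := by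
  have key : ∀ n v, packF (lane v) n = v % 65536 ^ n := by
    intro n v
    induction n with
    | zero => simp [packF, Nat.mod_one]
    | succ n ih =>
      rw [packF_succ, ih, lane_eq, pow_succ, Nat.mod_mul, Nat.mul_comm]
  intro n v hv
  rw [key, Nat.mod_eq_of_lt hv]

theorem packF_congr {f g : ℕ → ℕ} : ∀ {n : ℕ}, (∀ j < n, f j = g j) → packF f n = packF g n := by
  intro n
  induction n with
  | zero => intro _; rfl
  | succ n ih =>
    intro h
    rw [packF_succ, packF_succ, ih fun j hj => h j (by omega), h n (by omega)]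

theorem eq_packF {R n : ℕ} {f : ℕ → ℕ} (h : R < 65536 ^ n) (he : ∀ j < n, lane R j = f j) :
    R = packF f n := by
  rw [← packF_lane n R h]
  exact packF_congr he

theorem packF_add (f g : ℕ → ℕ) : ∀ n, packF f n + packF g n = packF (fun j => f j + g j) n := by
  intro n
  induction n with
  | zero => rfl
  | succ n ih => rw [packF_succ, packF_succ, packF_succ, ← ih, Nat.add_mul]; omega

theorem mul_packF (c : ℕ) (f : ℕ → ℕ) : ∀ n, c * packF f n = packF (fun j => c * f j) n := by
  intro n
  induction n with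
  | zero => rfl
  | succ n ih => rw [packF_succ, packF_succ, Nat.mul_add, ih, Nat.mul_assoc]

theorem packF_split (f : ℕ → ℕ) (n : ℕ) : ∀ m,
    packF f (n + m) = packF f n + 65536 ^ n * packF (fun j => f (n + j)) m := by
  intro m
  induction m with
  | zero => simp [packF]
  | succ m ih => rw [← Nat.add_assoc, packF_succ, ih, packF_succ, pow_add]; ring

theorem lane_and (v w j : ℕ) : lane (Nat.land v w) j = Nat.land (lane v j) (lane w j) := by
  refine Nat.eq_of_testBit_eq fun i => ?_
  have key : ∀ x, (lane x j).testBit i = (decide (i < 16) && x.testBit (16 * j + i)) := by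
    intro x
    show ((x >>> (16 * j)) &&& 65535).testBit i = _
    rw [Nat.testBit_and, Nat.testBit_shiftRight, show (65535 : ℕ) = 2 ^ 16 - 1 by norm_num,
      Nat.testBit_two_pow_sub_one, Bool.and_comm]
  show _ = (lane v j &&& lane w j).testBit i
  rw [Nat.testBit_and, key, key, key]
  show (decide (i < 16) && (v &&& w).testBit _) = _
  rw [Nat.testBit_and]
  cases decide (i < 16) <;> simp

theorem lane_shift (v i j : ℕ) : lane (Nat.shiftRight v (Nat.mul 16 i)) j = lane v (i + j) := by
  show ((v >>> (16 * i)) >>> (16 * j)) &&& 65535 = (v >>> (16 * (i + j))) &&& 65535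
  rw [← Nat.shiftRight_add, Nat.mul_add]

/-! ### Masks -/

/-- The number of entries. -/
def nEnt : ℕ := 2704

/-- All `n` entries equal to `c`. -/
def repC (c n : ℕ) : ℕ := Nat.mul c (Nat.div (Nat.sub (Nat.shiftLeft 1 (Nat.mul 16 n)) 1) 65535)

theorem repC_eq (c n : ℕ) : repC c n = packF (fun _ => c) n := by
  have key : ∀ n, 65535 * packF (fun _ => 1) n + 1 = 65536 ^ n := by
    intro n
    induction n with
    | zero => simp [packF]
    | succ n ih => rw [packF_succ, pow_succ]; omega
  show c * ((1 <<< (16 * n) - 1) / 65535) = _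
  rw [Nat.shiftLeft_eq, one_mul, pow_mul, show (2 : ℕ) ^ 16 = 65536 by norm_num, ← key n,
    Nat.add_sub_cancel, Nat.mul_div_cancel_left _ (by omega), mul_packF]
  exact packF_congr fun j _ => Nat.mul_one c

theorem repC_lane {c n j : ℕ} (hc : c < 65536) (hj : j < n) : lane (repC c n) j = c := by
  rw [repC_eq, lane_packF (fun _ _ => hc) j hj]

theorem land_lt {x y n : ℕ} (hy : y < 65536 ^ n) : Nat.land x y < 65536 ^ n :=
  lt_of_le_of_lt Nat.and_le_right hy

theorem repC_lt {c n : ℕ} (hc : c < 65536) : repC c n < 65536 ^ n := by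
  rw [repC_eq]; exact packF_lt fun _ _ => hc

theorem land_pow_sub_one (x k : ℕ) : Nat.land x (2 ^ k - 1) = x % 2 ^ k := by
  show x &&& (2 ^ k - 1) = _
  rw [Nat.and_two_pow_sub_one_eq_mod]

/-- Keeping the low `k` bits of every entry. -/
theorem mask_mod (v : ℕ) {k n : ℕ} (hk : k ≤ 16) :
    Nat.land v (repC (2 ^ k - 1) n) = packF (fun j => lane v j % 2 ^ k) n := by
  have hc : 2 ^ k - 1 < 65536 := by
    have := Nat.pow_le_pow_right (show 2 > 0 by omega) hk
    norm_num at this
    have := Nat.one_le_two_pow (n := k)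
    omega
  refine eq_packF (land_lt (repC_lt hc)) fun j hj => ?_
  rw [lane_and, repC_lane hc hj, land_pow_sub_one]

/-- Shifting right by `k` and keeping the low `16 - k` bits divides every entry by `2 ^ k`. -/
theorem shift_mask (v : ℕ) {k n : ℕ} (hk : k ≤ 16) :
    Nat.land (Nat.shiftRight v k) (repC (2 ^ (16 - k) - 1) n) = packF (fun j => lane v j / 2 ^ k) n := by
  rw [mask_mod _ (by omega)]
  refine packF_congr fun j _ => Nat.eq_of_testBit_eq fun i => ?_
  rw [Nat.testBit_mod_two_pow, Nat.testBit_div_two_pow]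
  have key : ∀ x i, (lane x j).testBit i = (decide (i < 16) && x.testBit (16 * j + i)) := by
    intro x i
    show ((x >>> (16 * j)) &&& 65535).testBit i = _
    rw [Nat.testBit_and, Nat.testBit_shiftRight, show (65535 : ℕ) = 2 ^ 16 - 1 by norm_num,
      Nat.testBit_two_pow_sub_one, Bool.and_comm]
  rw [key, key]
  show (decide (i < 16 - k) && (decide (i < 16) && (v >>> k).testBit (16 * j + i))) = _
  rw [Nat.testBit_shiftRight, show k + (16 * j + i) = 16 * j + (i + k) by omega]
  by_cases h : i < 16 - k
  · simp [h, show i < 16 by omega, show i + k < 16 by omega]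
  · simp [h, show ¬ i + k < 16 by omega]

/-! ### Reduction -/

/-- Evaluate a number before passing it on. -/
def forceN {α : Type} (n : ℕ) (k : ℕ → α) : α := Nat.rec (k 0) (fun m _ => k (Nat.succ m)) n

@[simp] theorem forceN_eq {α : Type} (n : ℕ) (k : ℕ → α) : forceN n k = k n := by cases n <;> rfl

/-- Replace `x = 16 h + l` by `h + l` in every entry. -/
def foldStep (v : ℕ) : ℕ :=
  Nat.add (Nat.land (Nat.shiftRight v 4) (repC 4095 nEnt)) (Nat.land v (repC 15 nEnt))

/-- Reduce every entry below 833 modulo 5. -/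
def reduce5 (v : ℕ) : ℕ :=
  forceN v fun v => forceN (foldStep v) fun a => forceN (foldStep a) fun b =>
    Nat.sub b (Nat.mul 5 (Nat.land (Nat.shiftRight (Nat.mul b 13) 6) (repC 1023 nEnt)))

theorem foldStep_eq {f : ℕ → ℕ} {b : ℕ} (hb : b < 65536) (hf : ∀ j < nEnt, f j ≤ b) :
    foldStep (packF f nEnt) = packF (fun j => f j / 16 + f j % 16) nEnt := by
  rw [foldStep, show (4095 : ℕ) = 2 ^ (16 - 4) - 1 by norm_num, show (15 : ℕ) = 2 ^ 4 - 1 by norm_num,
    shift_mask _ (by omega), mask_mod _ (by omega), Nat.add_eq, packF_add]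
  refine packF_congr fun j hj => ?_
  rw [lane_packF (fun i hi => (hf i hi).trans_lt hb) j hj]
  norm_num

theorem div5_small : ∀ x < 23, x * 13 / 64 = x / 5 := by decide

theorem reduce5_eq {f : ℕ → ℕ} (hf : ∀ j < nEnt, f j ≤ 832) :
    reduce5 (packF f nEnt) = packF (fun j => f j % 5) nEnt := by
  let g : ℕ → ℕ := fun j => f j / 16 + f j % 16
  let y : ℕ → ℕ := fun j => g j / 16 + g j % 16
  have hg : ∀ j < nEnt, g j ≤ 126 := fun j hj => by have := hf j hj; simp only [g]; omega
  have hy : ∀ j < nEnt, y j ≤ 22 := fun j hj => by have := hg j hj; simp only [y]; omega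
  have hmod : ∀ j < nEnt, y j % 5 = f j % 5 := fun j _ => by simp only [y, g]; omega
  rw [reduce5, forceN_eq, forceN_eq, forceN_eq, foldStep_eq (by omega) hf, foldStep_eq (by omega) hg]
  have hq : Nat.land (Nat.shiftRight (Nat.mul (packF y nEnt) 13) 6) (repC 1023 nEnt) =
      packF (fun j => y j / 5) nEnt := by
    rw [show (1023 : ℕ) = 2 ^ (16 - 6) - 1 by norm_num, shift_mask _ (by omega), Nat.mul_eq,
      Nat.mul_comm, mul_packF]
    refine packF_congr fun j hj => ?_
    rw [lane_packF (fun i hi => by have := hy i hi; omega) j hj, Nat.mul_comm,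
      show (2 : ℕ) ^ 6 = 64 by norm_num]
    exact div5_small _ (by have := hy j hj; omega)
  rw [hq, Nat.sub_eq, Nat.mul_eq, mul_packF]
  have e : packF y nEnt = packF (fun j => f j % 5) nEnt + packF (fun j => 5 * (y j / 5)) nEnt := by
    rw [packF_add]
    exact packF_congr fun j hj => by rw [← hmod j hj]; omega
  rw [e, Nat.add_sub_cancel]

/-! ### Matrices -/

/-- A matrix in normal form: entries below 5. -/
def matOK (A : ℕ) : Bool :=
  Nat.beq (Nat.land A (repC 7 nEnt)) A && Nat.beq (reduce5 A) A

theorem matOK_spec {A : ℕ} (h : matOK A = true) : A < 65536 ^ nEnt ∧ ∀ k < nEnt, lane A k < 5 := by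
  simp only [matOK, Bool.and_eq_true, Nat.beq_eq] at h
  obtain ⟨h1, h2⟩ := h
  rw [show (7 : ℕ) = 2 ^ 3 - 1 by norm_num, mask_mod _ (by omega)] at h1
  have hlt : ∀ i < nEnt, lane A i % 2 ^ 3 < 65536 := fun i _ =>
    (Nat.mod_lt _ (by omega)).trans (by omega)
  have hA : A < 65536 ^ nEnt := h1 ▸ packF_lt hlt
  have h7 : ∀ k < nEnt, lane A k ≤ 832 := fun k hk => by
    have := congrArg (fun x => lane x k) h1
    simp only [lane_packF hlt k hk] at this
    omega
  refine ⟨hA, fun k hk => ?_⟩
  rw [← packF_lane nEnt A hA, reduce5_eq h7, packF_lane nEnt A hA] at h2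
  have := congrArg (fun x => lane x k) h2
  simp only [lane_packF (fun i _ => show lane A i % 5 < 65536 by omega) k hk] at this
  omega

theorem matOK_packF {f : ℕ → ℕ} (hf : ∀ k < nEnt, f k < 5) : matOK (packF f nEnt) = true := by
  simp only [matOK, Bool.and_eq_true, Nat.beq_eq]
  refine ⟨?_, ?_⟩
  · rw [show (7 : ℕ) = 2 ^ 3 - 1 by norm_num, mask_mod _ (by omega)]
    refine packF_congr fun j hj => ?_
    rw [lane_packF (fun i hi => (hf i hi).trans (by omega)) j hj]
    exact Nat.mod_eq_of_lt ((hf j hj).trans (by omega))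
  · rw [reduce5_eq fun k hk => (hf k hk).le.trans (by omega)]
    exact packF_congr fun j hj => Nat.mod_eq_of_lt (hf j hj)

/-- The matrix encoded by a number. -/
def toM (A : ℕ) : M52 := Matrix.of fun i j => (lane A (52 * (i : ℕ) + (j : ℕ)) : ZMod 5)

/-- The entries 65535 at the beginnings of the rows. -/
def colMask : ℕ := Nat.rec 0 (fun r m => Nat.add m (Nat.shiftLeft 65535 (Nat.mul 832 r))) 52

/-- The sum of column `i` of `A` times row `i` of `B`, for `i < n`. -/
def sumP (A B M : ℕ) (n : ℕ) : ℕ :=
  Nat.rec 0 (fun i acc => Nat.add acc (Nat.mul (Nat.land (Nat.shiftRight A (Nat.mul 16 i)) M)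
    (Nat.land (Nat.shiftRight B (Nat.mul 16 (Nat.mul 52 i))) (repC 65535 52)))) n

/-- The product of two matrices. -/
def mulP (A B : ℕ) : ℕ :=
  forceN A fun A => forceN B fun B => forceN colMask fun M => reduce5 (sumP A B M 52)

/-- Blocks of 52 entries, each given as a number. -/
def packB (g : ℕ → ℕ) : ℕ → ℕ
  | 0 => 0
  | r + 1 => packB g r + g r * 65536 ^ (52 * r)

theorem packB_congr {g h : ℕ → ℕ} : ∀ {n : ℕ}, (∀ r < n, g r = h r) → packB g n = packB h n := by
  intro n
  induction n with
  | zero => intro _; rfl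
  | succ n ih => intro e; rw [packB, packB, ih fun r hr => e r (by omega), e n (by omega)]

theorem packB_mul (g : ℕ → ℕ) (R : ℕ) : ∀ n, packB g n * R = packB (fun r => g r * R) n := by
  intro n
  induction n with
  | zero => simp [packB]
  | succ n ih => rw [packB, packB, Nat.add_mul, ih, Nat.mul_right_comm]

theorem packB_eq (f : ℕ → ℕ) : ∀ R, packF f (52 * R) = packB (fun r => packF (fun c => f (52 * r + c)) 52) R := by
  intro R
  induction R with
  | zero => rfl
  | succ R ih => rw [Nat.mul_add, Nat.mul_one, packF_split, ih, packB, Nat.mul_comm (65536 ^ _)]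

theorem packF_single (a : ℕ) : packF (fun c => if c = 0 then a else 0) 52 = a := by
  have key : ∀ n, packF (fun c => if c = 0 then a else 0) (n + 1) = a := by
    intro n
    induction n with
    | zero => rw [packF_succ]; simp [packF]
    | succ n ih => rw [packF_succ, ih]; simp
  exact key 51

theorem colMask_eq : colMask = packF (fun k => if k % 52 = 0 then 65535 else 0) nEnt := by
  rw [show nEnt = 52 * 52 from rfl, packB_eq]
  have hb : packB (fun r => packF (fun c => if (52 * r + c) % 52 = 0 then 65535 else 0) 52) 52 =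
      packB (fun _ => 65535) 52 := by
    refine packB_congr fun r _ => ?_
    refine Eq.trans (packF_congr fun c hc => ?_) (packF_single 65535)
    rw [Nat.mul_add_mod, Nat.mod_eq_of_lt hc]
  rw [hb]
  have key : ∀ n : ℕ, (Nat.rec 0 (fun r m => Nat.add m (Nat.shiftLeft 65535 (Nat.mul 832 r))) n : ℕ) =
      packB (fun _ => 65535) n := by
    intro n
    induction n with
    | zero => rfl
    | succ n ih =>
      rw [packB]
      show (Nat.rec 0 (fun r m => Nat.add m (Nat.shiftLeft 65535 (Nat.mul 832 r))) n : ℕ) +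
        (65535 <<< (832 * n)) = _
      rw [ih, Nat.shiftLeft_eq, show 832 * n = 16 * (52 * n) by omega, pow_mul,
        show (2 : ℕ) ^ 16 = 65536 by norm_num]
  exact key 52

theorem col_eq (A : ℕ) {i : ℕ} :
    Nat.land (Nat.shiftRight A (Nat.mul 16 i)) colMask = packB (fun r => lane A (52 * r + i)) 52 := by
  have hm : ∀ k < nEnt, (if k % 52 = 0 then 65535 else 0) < 65536 := fun k _ => by split <;> omega
  have e : Nat.land (Nat.shiftRight A (Nat.mul 16 i)) colMask =
      packF (fun k => if k % 52 = 0 then lane A (i + k) else 0) nEnt := by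
    refine eq_packF (land_lt (colMask_eq ▸ packF_lt hm)) fun k hk => ?_
    rw [lane_and, lane_shift, colMask_eq, lane_packF hm k hk]
    split
    · rw [show (65535 : ℕ) = 2 ^ 16 - 1 by norm_num, land_pow_sub_one]
      exact Nat.mod_eq_of_lt (lane_lt _ _)
    · exact Nat.and_zero _
  rw [e, show nEnt = 52 * 52 from rfl, packB_eq]
  refine packB_congr fun r _ => ?_
  refine Eq.trans (packF_congr fun c hc => ?_) (packF_single _)
  rw [Nat.mul_add_mod, Nat.mod_eq_of_lt hc]
  split
  · subst c; rw [Nat.add_zero, Nat.add_comm]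
  · rfl

/-- Entry `k` of the sum of the first `n` outer products. -/
def entS (A B : ℕ) (n k : ℕ) : ℕ :=
  ∑ i ∈ Finset.range n, lane A (52 * (k / 52) + i) * lane B (52 * i + k % 52)

theorem sumP_eq (A B : ℕ) : ∀ n ≤ 52, sumP A B colMask n = packF (entS A B n) nEnt := by
  intro n
  induction n with
  | zero =>
    intro _
    have : ∀ m, packF (entS A B 0) m = 0 := by
      intro m
      induction m with
      | zero => rfl
      | succ m ih => rw [packF_succ, ih]; simp [entS]
    rw [this]; rfl
  | succ n ih =>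
    intro hn
    show sumP A B colMask n + Nat.land (Nat.shiftRight A (Nat.mul 16 n)) colMask *
      Nat.land (Nat.shiftRight B (Nat.mul 16 (Nat.mul 52 n))) (repC 65535 52) = _
    rw [ih (by omega), col_eq A, packB_mul]
    have hr : Nat.land (Nat.shiftRight B (Nat.mul 16 (Nat.mul 52 n))) (repC 65535 52) =
        packF (fun c => lane B (52 * n + c)) 52 := by
      rw [show (65535 : ℕ) = 2 ^ 16 - 1 by norm_num, mask_mod _ (by omega)]
      refine packF_congr fun c _ => ?_
      rw [lane_shift, Nat.mod_eq_of_lt (lt_of_lt_of_eq (lane_lt _ _) (by norm_num))]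
      rfl
    have hb : packB (fun r => lane A (52 * r + n) *
        Nat.land (Nat.shiftRight B (Nat.mul 16 (Nat.mul 52 n))) (repC 65535 52)) 52 =
        packF (fun k => lane A (52 * (k / 52) + n) * lane B (52 * n + k % 52)) (52 * 52) := by
      rw [packB_eq]
      refine packB_congr fun r _ => ?_
      rw [hr, mul_packF]
      refine packF_congr fun c hc => ?_
      rw [Nat.mul_add_div (by omega), Nat.div_eq_of_lt hc, Nat.mul_add_mod, Nat.mod_eq_of_lt hc, Nat.add_zero]
    rw [hb, show 52 * 52 = nEnt from rfl, packF_add]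
    exact packF_congr fun k _ => by rw [entS, entS, Finset.sum_range_succ]

theorem entS_le {A B : ℕ} (hA : matOK A = true) (hB : matOK B = true) {k : ℕ} (hk : k < nEnt) :
    entS A B 52 k ≤ 832 := by
  refine (Finset.sum_le_card_nsmul _ _ 16 fun i hi => ?_).trans (by simp)
  rw [Finset.mem_range] at hi
  have hk' : k < 2704 := hk
  have h1 := (matOK_spec hA).2 (52 * (k / 52) + i) (show _ < 2704 by omega)
  have h2 := (matOK_spec hB).2 (52 * i + k % 52) (show _ < 2704 by omega)
  exact (Nat.mul_le_mul (Nat.le_of_lt_succ h1) (Nat.le_of_lt_succ h2)).trans (le_of_eq rfl)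

theorem mulP_eq {A B : ℕ} (hA : matOK A = true) (hB : matOK B = true) :
    mulP A B = packF (fun k => entS A B 52 k % 5) nEnt := by
  rw [mulP, forceN_eq, forceN_eq, forceN_eq, sumP_eq A B 52 le_rfl,
    reduce5_eq fun k hk => entS_le hA hB hk]

theorem mulP_matOK {A B : ℕ} (hA : matOK A = true) (hB : matOK B = true) : matOK (mulP A B) = true := by
  rw [mulP_eq hA hB]
  exact matOK_packF fun k _ => Nat.mod_lt _ (by omega)

theorem toM_mulP {A B : ℕ} (hA : matOK A = true) (hB : matOK B = true) :
    toM (mulP A B) = toM A * toM B := by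
  ext i j
  rw [Matrix.mul_apply]
  show (lane (mulP A B) (52 * (i : ℕ) + (j : ℕ)) : ZMod 5) = _
  have hi := i.2
  have hj := j.2
  rw [mulP_eq hA hB, lane_packF (fun k _ => by omega) _ (show _ < nEnt from by show _ < 2704; omega), ZMod.natCast_mod, entS,
    Nat.mul_add_div (by omega), Nat.div_eq_of_lt hj, Nat.mul_add_mod, Nat.mod_eq_of_lt hj, Nat.add_zero,
    Nat.cast_sum, ← Fin.sum_univ_eq_sum_range (fun k => ((lane A (52 * (i : ℕ) + k) *
      lane B (52 * k + (j : ℕ)) : ℕ) : ZMod 5))]
  exact Finset.sum_congr rfl fun k _ => by rw [Nat.cast_mul]; rfl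

/-- The identity matrix. -/
def idM : ℕ := Nat.rec 0 (fun r m => Nat.add m (Nat.shiftLeft 1 (Nat.mul 848 r))) 52

theorem idM_eq : idM = packF (fun k => if k / 52 = k % 52 then 1 else 0) nEnt := by
  rw [show nEnt = 52 * 52 from rfl, packB_eq]
  have single : ∀ r n, packF (fun c => if r = c then 1 else 0) n = if r < n then 65536 ^ r else 0 := by
    intro r n
    induction n with
    | zero => simp [packF]
    | succ n ih =>
      rw [packF_succ, ih]
      rcases lt_trichotomy r n with h | h | h
      · simp [h, Nat.ne_of_lt h, Nat.lt_succ_of_lt h]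
      · simp [h]
      · simp [Nat.ne_of_gt h, not_lt.2 h.le, show ¬ r < n + 1 by omega]
  have key : ∀ n ≤ 52, (Nat.rec 0 (fun r m => Nat.add m (Nat.shiftLeft 1 (Nat.mul 848 r))) n : ℕ) =
      packB (fun r => packF (fun c => if (52 * r + c) / 52 = (52 * r + c) % 52 then 1 else 0) 52) n := by
    intro n
    induction n with
    | zero => intro _; rfl
    | succ n ih =>
      intro hn
      rw [packB]
      show (Nat.rec 0 (fun r m => Nat.add m (Nat.shiftLeft 1 (Nat.mul 848 r))) n : ℕ) +
        (1 <<< (848 * n)) = _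
      rw [ih (by omega), Nat.shiftLeft_eq, one_mul, show 848 * n = 16 * (n + 52 * n) by omega, pow_mul,
        show (2 : ℕ) ^ 16 = 65536 by norm_num, pow_add]
      have hn' : n < 52 := by omega
      rw [packF_congr (g := fun c => if n = c then 1 else 0) fun c hc => by
        rw [Nat.mul_add_div (by omega), Nat.div_eq_of_lt hc, Nat.mul_add_mod, Nat.mod_eq_of_lt hc,
          Nat.add_zero], single, if_pos hn']
  exact key 52 le_rfl

theorem idM_ok : matOK idM = true := by
  rw [idM_eq]
  exact matOK_packF fun k _ => by split <;> omega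

theorem toM_idM : toM idM = 1 := by
  ext i j
  show (lane idM (52 * (i : ℕ) + (j : ℕ)) : ZMod 5) = _
  have hi := i.2
  have hj := j.2
  rw [idM_eq, lane_packF (fun k _ => by split <;> omega) _ (show _ < nEnt from by show _ < 2704; omega),
    Nat.mul_add_div (by omega), Nat.div_eq_of_lt hj, Nat.mul_add_mod, Nat.mod_eq_of_lt hj, Nat.add_zero,
    Matrix.one_apply]
  by_cases h : i = j
  · subst h; simp
  · simp [h, Fin.val_ne_of_ne h]

theorem toM_injective {A B : ℕ} (hA : matOK A = true) (hB : matOK B = true) (h : toM A = toM B) : A = B := by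
  obtain ⟨a1, a2⟩ := matOK_spec hA
  obtain ⟨b1, b2⟩ := matOK_spec hB
  rw [← packF_lane nEnt A a1, ← packF_lane nEnt B b1]
  refine packF_congr fun k hk => ?_
  have hk' : k < 2704 := hk
  have e : (lane A (52 * (k / 52) + k % 52) : ZMod 5) = (lane B (52 * (k / 52) + k % 52) : ZMod 5) :=
    congrFun (congrFun h ⟨k / 52, by omega⟩) ⟨k % 52, by omega⟩
  rw [Nat.div_add_mod, ZMod.natCast_eq_natCast_iff', Nat.mod_eq_of_lt (a2 k hk),
    Nat.mod_eq_of_lt (b2 k hk)] at e
  exact e

/-- `f i` for all `i < n`. -/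
def allLt (f : ℕ → Bool) (n : ℕ) : Bool := Nat.rec true (fun i r => Bool.rec false r (f i)) n

theorem allLt_spec {f : ℕ → Bool} : ∀ {n : ℕ}, allLt f n = true → ∀ i < n, f i = true := by
  intro n
  induction n with
  | zero => intro _ i hi; omega
  | succ n ih =>
    intro h i hi
    change Bool.rec false (allLt f n) (f n) = true at h
    cases hf : f n with
    | false => rw [hf] at h; exact Bool.noConfusion h
    | true =>
      rw [hf] at h
      rcases Nat.lt_succ_iff_lt_or_eq.1 hi with h1 | h1
      · exact ih h i h1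
      · exact h1 ▸ hf

end

end Cfsg.Agent.F4Double.Mat
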