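import Cfsg.Agent.Lib.Lie.CovMult
import Cfsg.Agent.Lib.Lie.TabF4
import Cfsg.Agent.Lib.SchurMult.Bound
import Cfsg.Agent.Lib.F4Double.Cert

/-!
The kernel of a stem extension of F4 over the field with two elements has at most two elements: suitable lifts
of the root elements satisfy Steinberg's relations modulo one relation value of order at most two.
-/

set_option autoImplicit false
set_option maxRecDepth 100000

namespace Cfsg.Agent.F4Double

open Cfsg.Lie Cfsg.Agent.Chev
open scoped commutatorElement

universe u

/-- The tables of type F4. -/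
abbrev tabF : Tab := F4Data.tab

theorem tabF_D : tabF.D = chevF4 := rfl

theorem tabF_n : tabF.n = 48 := rfl

/-- The terms with odd coefficient. -/
def oddTerms (r s : ℕ) : List ℕ :=
  ((tabF.cTerms r s).filter fun c => decide (c.2.1 % 2 = 1)).map fun c => c.1

/-- The commutator terms of the two tables agree. -/
def termsOK : Bool :=
  (List.range 48).all fun p => (List.range 48).all fun q =>
    !Nat.blt p q || Nat.beq (p + q) 47 ||
      (Nat.beq (tabF.neg p) (47 - p) && decide (tw p q = oddTerms p q) &&
        (tw p q).all (fun u => Nat.blt u 48) &&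
        (decide (oddTerms q p = (tw p q).reverse) ||
          (decide (oddTerms q p = tw p q) &&
            match tw p q with
            | [] => true
            | [_] => true
            | [a, b] => !Nat.beq a b && !Nat.beq (a + b) 47 &&
                (if Nat.blt a b then decide (tw a b = []) else decide (tw b a = []))
            | _ => false)))

theorem termsOK_eq : termsOK = true := by decide +kernel

theorem neg_tabF : ((List.range 48).all fun r => Nat.beq (tabF.neg r) (47 - r)) = true := by decide +kernel

/-- The chosen pair of a root. -/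
def gPair (r : ℕ) : ℕ × ℕ × List ℕ × List ℕ := gaugeTab.getD r (0, 0, [], [])

/-- The chosen pairs are in order. -/
def gaugeOK : Bool :=
  (List.range 48).all fun r =>
    let g := gPair r
    Nat.blt g.1 g.2.1 && Nat.blt g.2.1 48 && !Nat.beq (g.1 + g.2.1) 47 &&
      decide (tw g.1 g.2.1 = g.2.2.1 ++ [r] ++ g.2.2.2) &&
      (g.2.2.1 ++ g.2.2.2).all fun u =>
        Nat.blt u 48 && decide ((gPair u).2.2.1 = []) && decide ((gPair u).2.2.2 = [])

theorem gaugeOK_eq : gaugeOK = true := by decide +kernel

theorem gauge_spec {r : ℕ} (hr : r < 48) :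
    (gPair r).1 < (gPair r).2.1 ∧ (gPair r).2.1 < 48 ∧ (gPair r).1 + (gPair r).2.1 ≠ 47 ∧
      tw (gPair r).1 (gPair r).2.1 = (gPair r).2.2.1 ++ [r] ++ (gPair r).2.2.2 ∧
      ∀ u ∈ (gPair r).2.2.1 ++ (gPair r).2.2.2, u < 48 ∧ (gPair u).2.2.1 = [] ∧ (gPair u).2.2.2 = [] := by
  have h := List.all_eq_true.mp gaugeOK_eq r (List.mem_range.mpr hr)
  simp only [Bool.and_eq_true, Nat.blt_eq, decide_eq_true_eq, List.all_eq_true, Bool.not_eq_true',
    ← Bool.not_eq_true, Nat.beq_eq] at h
  exact ⟨h.1.1.1.1, h.1.1.1.2, h.1.1.2, h.1.2, fun u hu => ⟨(h.2 u hu).1.1, (h.2 u hu).1.2, (h.2 u hu).2⟩⟩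

section Field

variable {F : Type*} [Field F]

theorem card_two_cases [Fintype F] (hF : Fintype.card F = 2) (t : F) : t = 0 ∨ t = 1 := by
  classical
  by_contra h
  push Not at h
  have := Finset.card_le_univ ({0, 1, t} : Finset F)
  rw [hF, Finset.card_insert_of_notMem (by simp [h.1.symm]), Finset.card_insert_of_notMem (by simp [h.2.symm]),
    Finset.card_singleton] at this
  omega

theorem two_eq_zero [Fintype F] (hF : Fintype.card F = 2) : (1 : F) + 1 = 0 := by
  rcases card_two_cases hF ((1 : F) + 1) with h | h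
  · exact h
  · exact absurd (add_eq_left.mp h) one_ne_zero

theorem intCast_two [Fintype F] (hF : Fintype.card F = 2) (n : ℤ) :
    (n : F) = if n % 2 = 1 then 1 else 0 := by
  have h2 : ((2 : ℤ) : F) = 0 := by
    rw [show (2 : ℤ) = 1 + 1 from rfl, Int.cast_add, Int.cast_one]
    exact two_eq_zero hF
  have e : n = 2 * (n / 2) + n % 2 := by omega
  rcases Int.emod_two_eq_zero_or_one n with h | h <;> rw [h] <;>
    simp only [show ((0 : ℤ) = 1) = False from by simp, if_false, if_true] <;>
    rw [e, h, Int.cast_add, Int.cast_mul, h2] <;> simp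

/-- The product of the terms in the presented group, both parameters being one. -/
theorem sWord_cVal [Fintype F] (hF : Fintype.card F = 2) (g : tabF.Good) (r s : ℕ) :
    Tab.Cov.sWord tabF F (Tab.cVal tabF F r s 1 1) =
      ((oddTerms r s).map fun u => Tab.Cov.sx tabF F u 1).prod := by
  have hneg : (-1 : F) = 1 := by rw [neg_eq_iff_add_eq_zero]; exact two_eq_zero hF
  rw [oddTerms, Tab.cVal, Tab.Cov.sWord, List.map_map]
  induction tabF.cTerms r s with
  | nil => rfl
  | cons c L ih =>
    rw [List.map_cons, List.prod_cons, ih, List.filter_cons]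
    simp only [Function.comp_apply, hneg, one_pow, mul_one, intCast_two hF c.2.1]
    by_cases h : c.2.1 % 2 = 1
    · simp [h]
    · simp [h, Tab.Cov.sx_zero g]

end Field

/-- Elements satisfying the relations define a homomorphism on the presented group. -/
theorem exists_hom {F : Type*} [Field F] [Fintype F] [DecidableEq F] (hF : Fintype.card F = 2) {Q : Type*} [Group Q]
    (y : ℕ → Q) (ysq : ∀ r < 48, y r * y r = 1)
    (ycomm : ∀ p q, p < q → q < 48 → p + q ≠ 47 → y q * y p = y p * y q * ((tw p q).map y).prod) :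
    ∃ τ : tabF.D.SteinbergCover F →* Q,
      ∀ r : ℕ, r < 48 → ∀ t : F, τ (Tab.Cov.sx tabF F r t) = if t = 0 then 1 else y r := by
  have hrev : ∀ L : List ℕ, (∀ u ∈ L, u < 48) → ((L.map y).prod)⁻¹ = (L.reverse.map y).prod := by
    intro L hL
    rw [List.prod_inv_reverse, List.map_map, ← List.map_reverse]
    refine congrArg List.prod (List.map_congr_left fun u hu => ?_)
    exact inv_eq_of_mul_eq_one_left (ysq u (hL u (List.mem_reverse.mp hu)))
  have yodd : ∀ r s, r < 48 → s < 48 → s ≠ r → r + s ≠ 47 →
      y s * y r = y r * y s * ((oddTerms r s).map y).prod := by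
    intro r s hr hs' hne h47
    rcases lt_or_gt_of_ne hne with hlt | hlt
    · have hlt' : s < r := hlt
      have h := List.all_eq_true.mp (List.all_eq_true.mp termsOK_eq s (List.mem_range.mpr hs')) r
        (List.mem_range.mpr hr)
      simp only [Bool.or_eq_true, Bool.and_eq_true, Bool.not_eq_true', ← Bool.not_eq_true, Nat.blt_eq, Nat.beq_eq,
        decide_eq_true_eq, List.all_eq_true] at h
      obtain ⟨⟨⟨-, -⟩, ht⟩, ho⟩ := h.resolve_left (by simp [hlt', show s + r ≠ 47 by omega])
      have key : y s * y r = y r * y s * ((tw s r).reverse.map y).prod := by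
        rw [← hrev _ ht, eq_mul_inv_iff_mul_eq, ← ycomm s r hlt' hr (by omega)]
      rcases ho with ho | ⟨ho, hl⟩
      · rw [ho]; exact key
      · rw [ho]
        revert key hl ht
        rcases tw s r with _ | ⟨a, _ | ⟨b, _ | ⟨c, L⟩⟩⟩ <;> intro ht key hl
        · exact key
        · exact key
        · simp only [Bool.and_eq_true, Bool.not_eq_true', ← Bool.not_eq_true, Nat.beq_eq, Nat.blt_eq] at hl
          have ha : a < 48 := ht a (by simp)
          have hb : b < 48 := ht b (by simp)
          have hab : y a * y b = y b * y a := by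
            obtain ⟨⟨hab, h47'⟩, hl⟩ := hl
            split at hl
            · rename_i hh
              have := ycomm a b hh hb h47'
              rw [of_decide_eq_true hl] at this
              simpa using this.symm
            · rename_i hh
              have := ycomm b a (by omega) ha (by omega)
              rw [of_decide_eq_true hl] at this
              simpa using this
          rw [key]
          simp only [List.reverse_cons, List.reverse_nil, List.nil_append, List.cons_append, List.map_cons,
            List.map_nil, List.prod_cons, List.prod_nil, mul_one, hab]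
        · simp at hl
    · have h := List.all_eq_true.mp (List.all_eq_true.mp termsOK_eq r (List.mem_range.mpr hr)) s
        (List.mem_range.mpr hs')
      simp only [Bool.or_eq_true, Bool.and_eq_true, Bool.not_eq_true', ← Bool.not_eq_true, Nat.blt_eq, Nat.beq_eq,
        decide_eq_true_eq, List.all_eq_true] at h
      obtain ⟨⟨⟨-, ht⟩, -⟩, -⟩ := h.resolve_left (by simp [show r < s from hlt, h47])
      rw [← ht]
      exact ycomm r s hlt hs' h47
  classical
  let f : Fin tabF.D.nroots × F → Q := fun p => if p.2 = 0 then 1 else y p.1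
  have hX : ∀ (r : ℕ) (t : F), r < 48 → FreeGroup.lift f (tabF.D.stX r t) = if t = 0 then 1 else y r := by
    intro r t hr
    have hr' : r < tabF.D.nroots := hr
    simp [ChevalleyDatum.stX, hr', f]
  have hW : ∀ w : List (ℕ × F), (∀ x ∈ w, x.1 < 48) →
      FreeGroup.lift f (tabF.D.stWord w) = (w.map fun x => if x.2 = 0 then 1 else y x.1).prod := by
    intro w hw
    rw [ChevalleyDatum.stWord, map_list_prod, List.map_map]
    exact congrArg List.prod (List.map_congr_left fun x hx => hX _ _ (hw x hx))
  have hrel : ∀ x ∈ tabF.D.steinbergRelsAB F, FreeGroup.lift f x = 1 := by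
    rintro x (⟨r, a, b, hr, rfl⟩ | ⟨r, s, t, v, hr, hs', h1, h2, rfl⟩)
    · simp only [map_mul, map_inv, hX _ _ (show r < 48 from hr)]
      rcases card_two_cases hF a with rfl | rfl <;> rcases card_two_cases hF b with rfl | rfl <;>
        simp [two_eq_zero hF, ysq r hr]
    · have hr' : r < tabF.n := hr
      have hs'' : s < tabF.n := hs'
      have h2' : s ≠ tabF.neg r := by rwa [← F4Data.good.neg_eq hr']
      rw [Tab.commWord_eq F4Data.good hr' hs'']
      have hlt : ∀ c ∈ Tab.cVal tabF F r s t v, c.1 < 48 := by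
        intro c hc'
        obtain ⟨d, hd', rfl⟩ := List.mem_map.1 hc'
        exact (Tab.cTerms_mem F4Data.good hr' hs'' hd').1
      simp only [map_mul, map_inv, hX _ _ (show r < 48 from hr), hX _ _ (show s < 48 from hs'),
        hW _ hlt]
      rw [mul_inv_eq_one]
      by_cases htv : t = 0 ∨ v = 0
      · have hw1 : ((Tab.cVal tabF F r s t v).map fun x => if x.2 = 0 then (1 : Q) else y x.1).prod = 1 := by
          refine List.prod_eq_one fun x hx => ?_
          obtain ⟨c, hc', rfl⟩ := List.mem_map.1 hx
          obtain ⟨d, hd', rfl⟩ := List.mem_map.1 hc'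
          obtain ⟨-, hi, hj, -⟩ := Tab.cTerms_mem F4Data.good hr' hs'' hd'
          refine if_pos ?_
          rcases htv with rfl | rfl
          · simp [zero_pow (show d.2.2.1 ≠ 0 by omega)]
          · simp [zero_pow (show d.2.2.2 ≠ 0 by omega)]
        rw [hw1]
        rcases htv with rfl | rfl
        · rcases card_two_cases hF v with rfl | rfl <;> simp
        · rcases card_two_cases hF t with rfl | rfl <;> simp
      · push Not at htv
        obtain rfl := (card_two_cases hF t).resolve_left htv.1
        obtain rfl := (card_two_cases hF v).resolve_left htv.2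
        have hneg : (-1 : F) = 1 := by rw [neg_eq_iff_add_eq_zero]; exact two_eq_zero hF
        have hw1 : ((Tab.cVal tabF F r s 1 1).map fun x => if x.2 = 0 then (1 : Q) else y x.1).prod =
            ((oddTerms r s).map y).prod := by
          rw [Tab.cVal, oddTerms, List.map_map]
          induction tabF.cTerms r s with
          | nil => rfl
          | cons c L ih =>
            rw [List.map_cons, List.prod_cons, ih, List.filter_cons]
            simp only [Function.comp_apply, hneg, one_pow, mul_one, intCast_two hF c.2.1]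
            by_cases h : c.2.1 % 2 = 1
            · simp [h]
            · simp [h]
        have h47 : r + s ≠ 47 := fun h => h2' (by
          rw [Nat.eq_of_beq_eq_true (List.all_eq_true.mp neg_tabF r (List.mem_range.mpr hr))]; omega)
        rw [hw1, if_neg one_ne_zero, if_neg one_ne_zero, inv_eq_of_mul_eq_one_left (ysq r hr),
          inv_eq_of_mul_eq_one_left (ysq s hs')]
        have h := yodd r s hr hs' h1 h47
        rw [mul_assoc (y s * y r)]
        nth_rewrite 2 [h]
        have cs : ∀ x, y r * (y r * x) = x := fun x => by rw [← mul_assoc, ysq r hr, one_mul]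
        have ct : ∀ x, y s * (y s * x) = x := fun x => by rw [← mul_assoc, ysq s hs', one_mul]
        simp only [mul_assoc, cs, ct]
  refine ⟨PresentedGroup.toGroup hrel, fun r hr t => ?_⟩
  have hr' : r < tabF.D.nroots := hr
  rw [Tab.Cov.sx, ChevalleyDatum.scGen, ChevalleyDatum.stX, dif_pos hr']
  exact PresentedGroup.toGroup.of _

section Lifts

variable {F : Type u} [Field F] [Fintype F] (hF : Fintype.card F = 2)
  (e : tabF.D.SteinbergCover F ≃* ↥(chevF4.group F))
  {Γ : Type u} [Group Γ] (σ : Γ →* ↥(chevF4.group F))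

/-- The root elements of the group. -/
noncomputable def xi (r : ℕ) : ↥(chevF4.group F) := e (Tab.Cov.sx tabF F r 1)

include hF in
theorem xi_sq {r : ℕ} : xi e r * xi e r = 1 := by
  rw [xi, ← map_mul, Tab.Cov.sx_add F4Data.good, two_eq_zero hF, Tab.Cov.sx_zero F4Data.good, map_one]

include hF in
theorem xi_comm {p q : ℕ} (hpq : p < q) (hq : q < 48) (hne : p + q ≠ 47) :
    xi e q * xi e p = xi e p * xi e q * ((tw p q).map (xi e)).prod := by
  have h := List.all_eq_true.mp (List.all_eq_true.mp termsOK_eq p (List.mem_range.mpr (by omega))) q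
    (List.mem_range.mpr hq)
  simp only [Bool.or_eq_true, Bool.and_eq_true, Bool.not_eq_true', ← Bool.not_eq_true, Nat.blt_eq, Nat.beq_eq,
    decide_eq_true_eq] at h
  obtain ⟨⟨⟨hn, ht⟩, -⟩, -⟩ := (h.resolve_left (by simp [hpq, hne]))
  have hs : q ≠ tabF.neg p := by rw [hn]; omega
  simp only [xi]
  rw [← map_mul, Tab.Cov.sx_comm F4Data.good (by rw [tabF_n]; omega) (by rw [tabF_n]; omega) (by omega) hs,
    sWord_cVal hF F4Data.good, ← ht, map_mul, map_mul, map_list_prod, List.map_map]
  rfl

variable {σ} in
/-- A chosen lift. -/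
noncomputable def lifted (hs : Function.Surjective σ) (r : ℕ) : Γ := (hs (xi e r)).choose

theorem lifted_spec (hs : Function.Surjective σ) (r : ℕ) : σ (lifted e hs r) = xi e r := (hs (xi e r)).choose_spec

variable {σ} (hs : Function.Surjective σ)

/-- The commutator of the chosen pair of a root. -/
noncomputable def commLift (r : ℕ) : Γ :=
  (lifted e hs (gPair r).1 * lifted e hs (gPair r).2.1)⁻¹ *
    (lifted e hs (gPair r).2.1 * lifted e hs (gPair r).1)

/-- The lifts used. -/
noncomputable def liftY (r : ℕ) : Γ :=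
  (((gPair r).2.2.1.map (commLift e hs)).prod)⁻¹ * commLift e hs r *
    (((gPair r).2.2.2.map (commLift e hs)).prod)⁻¹

include hF in
theorem map_commLift {r : ℕ} (hr : r < 48) :
    σ (commLift e hs r) = ((tw (gPair r).1 (gPair r).2.1).map (xi e)).prod := by
  obtain ⟨h1, h2, h3, -, -⟩ := gauge_spec hr
  rw [commLift, map_mul, map_inv, map_mul, map_mul, lifted_spec, lifted_spec, xi_comm hF e h1 h2 h3,
    inv_mul_cancel_left]

include hF in
theorem map_commLift_simple {r : ℕ} (hr : r < 48) (h1 : (gPair r).2.2.1 = []) (h2 : (gPair r).2.2.2 = []) :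
    σ (commLift e hs r) = xi e r := by
  rw [map_commLift hF e hs hr, (gauge_spec hr).2.2.2.1, h1, h2]
  simp

include hF in
theorem map_liftY {r : ℕ} (hr : r < 48) : σ (liftY e hs r) = xi e r := by
  obtain ⟨-, -, -, h4, h5⟩ := gauge_spec hr
  have key : ∀ L : List ℕ, (∀ u ∈ L, u ∈ (gPair r).2.2.1 ++ (gPair r).2.2.2) →
      σ ((L.map (commLift e hs)).prod) = (L.map (xi e)).prod := by
    intro L hL
    rw [map_list_prod, List.map_map]
    refine congrArg List.prod (List.map_congr_left fun u hu => ?_)
    obtain ⟨a, b, c⟩ := h5 u (hL u hu)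
    exact map_commLift_simple hF e hs a b c
  rw [liftY, map_mul, map_mul, map_inv, map_inv, key _ fun u hu => List.mem_append_left _ hu,
    key _ fun u hu => List.mem_append_right _ hu, map_commLift hF e hs hr, h4]
  simp only [List.map_append, List.map_cons, List.map_nil, List.prod_append, List.prod_cons, List.prod_nil,
    mul_one]
  group

include hF in
theorem prod_liftY {r : ℕ} (hr : r < 48) :
    ((tw (gPair r).1 (gPair r).2.1).map (liftY e hs)).prod = commLift e hs r := by
  obtain ⟨-, -, -, h4, h5⟩ := gauge_spec hr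
  have key : ∀ L : List ℕ, (∀ u ∈ L, u ∈ (gPair r).2.2.1 ++ (gPair r).2.2.2) →
      (L.map (liftY e hs)).prod = (L.map (commLift e hs)).prod := by
    intro L hL
    refine congrArg List.prod (List.map_congr_left fun u hu => ?_)
    obtain ⟨-, b, c⟩ := h5 u (hL u hu)
    simp [liftY, b, c]
  rw [h4]
  simp only [List.map_append, List.map_cons, List.map_nil, List.prod_append, List.prod_cons, List.prod_nil,
    mul_one]
  rw [key _ fun u hu => List.mem_append_left _ hu, key _ fun u hu => List.mem_append_right _ hu, liftY]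
  group

theorem central_commutator {a b c d : Γ} (hc : c ∈ Subgroup.center Γ) (hd : d ∈ Subgroup.center Γ) :
    (a * c * (b * d))⁻¹ * (b * d * (a * c)) = (a * b)⁻¹ * (b * a) := by
  have hc' := fun x => (Subgroup.mem_center_iff.1 hc x)
  have hd' := fun x => (Subgroup.mem_center_iff.1 hd x)
  have e1 : a * c * (b * d) = (c * d) * (a * b) := by
    rw [hc' a, hd' b, mul_assoc, ← mul_assoc a, hd' a]
    simp only [mul_assoc]
  have e2 : b * d * (a * c) = (c * d) * (b * a) := by
    rw [hd' b, hc' a, mul_assoc, ← mul_assoc b, hc' b, ← mul_assoc, ← mul_assoc, ← hd' c]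
    simp only [mul_assoc]
  rw [e1, e2, mul_inv_rev, mul_assoc, inv_mul_cancel_left]

variable (hc : σ.ker ≤ Subgroup.center Γ)

/-- The value of the relation with code `v`. -/
noncomputable def relVal (Y : ℕ → Γ) (v : ℕ) : Γ :=
  if v / 48 = v % 48 then Y (v / 48) * Y (v / 48)
  else Y (v % 48) * Y (v / 48) * (Y (v / 48) * Y (v % 48) * ((tw (v / 48) (v % 48)).map Y).prod)⁻¹

include hF hc in
theorem relVal_mem {p q : ℕ} (hpq : p ≤ q) (hq : q < 48) (hne : p + q ≠ 47) :
    relVal (liftY e hs) (48 * p + q) ∈ σ.ker := by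
  have hp : p < 48 := by omega
  rw [MonoidHom.mem_ker, relVal, show (48 * p + q) / 48 = p by omega, show (48 * p + q) % 48 = q by omega]
  split
  · rw [map_mul, map_liftY hF e hs hp, xi_sq hF]
  · rename_i hne'
    have hpq' : p < q := by omega
    have ht : ∀ u ∈ tw p q, u < 48 := by
      have h := List.all_eq_true.mp (List.all_eq_true.mp termsOK_eq p (List.mem_range.mpr hp)) q
        (List.mem_range.mpr hq)
      simp only [Bool.or_eq_true, Bool.and_eq_true, Bool.not_eq_true', ← Bool.not_eq_true, Nat.blt_eq, Nat.beq_eq,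
        decide_eq_true_eq, List.all_eq_true] at h
      exact (h.resolve_left (by simp [hpq', hne])).1.2
    rw [map_mul, map_inv, map_mul, map_mul, map_mul, map_list_prod, List.map_map,
      List.map_congr_left (g := xi e) (f := ⇑σ ∘ liftY e hs) fun u hu => map_liftY hF e hs (ht u hu),
      map_liftY hF e hs hp, map_liftY hF e hs hq, ← xi_comm hF e hpq' hq hne, mul_inv_cancel]

open Classical in
/-- The value of a relation as a central element. -/
noncomputable def relZ (v : ℕ) : ↥(Subgroup.center Γ) :=
  if h : relVal (liftY e hs) v ∈ Subgroup.center Γ then ⟨_, h⟩ else 1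

include hF hc in
theorem relZ_coe {p q : ℕ} (hpq : p ≤ q) (hq : q < 48) (hne : p + q ≠ 47) :
    (relZ e hs (48 * p + q) : Γ) = relVal (liftY e hs) (48 * p + q) := by
  rw [relZ, dif_pos (hc (relVal_mem hF e hs hc hpq hq hne))]

include hF hc in
theorem rels_liftY : Rels (liftY e hs) (relZ e hs) := by
  constructor
  · intro r hr
    rw [show 49 * r = 48 * r + r by omega, relZ_coe hF e hs hc le_rfl hr (by omega), relVal,
      show (48 * r + r) / 48 = r by omega, show (48 * r + r) % 48 = r by omega, if_pos rfl]
  · intro p q hpq hq hne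
    rw [relZ_coe hF e hs hc hpq.le hq hne, relVal, show (48 * p + q) / 48 = p by omega,
      show (48 * p + q) % 48 = q by omega, if_neg (by omega), inv_mul_cancel_right]

include hF hc in
theorem gauge_one {r : ℕ} (hr : r < 48) : relZ e hs (gaugeVar r) = 1 := by
  obtain ⟨h1, h2, h3, -, -⟩ := gauge_spec hr
  refine Subtype.ext ?_
  show (relZ e hs (48 * (gPair r).1 + (gPair r).2.1) : Γ) = 1
  rw [relZ_coe hF e hs hc h1.le h2 h3, relVal]
  generalize hp : (gPair r).1 = p at *
  generalize hq : (gPair r).2.1 = q at *
  rw [show (48 * p + q) / 48 = p by omega, show (48 * p + q) % 48 = q by omega, if_neg (by omega), ← hp, ← hq,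
    prod_liftY hF e hs hr, hp, hq]
  have hz : ∀ u, u < 48 → (lifted e hs u)⁻¹ * liftY e hs u ∈ Subgroup.center Γ := fun u hu => hc (by
    rw [MonoidHom.mem_ker, map_mul, map_inv, lifted_spec, map_liftY hF e hs hu, inv_mul_cancel])
  have := central_commutator (a := lifted e hs p) (b := lifted e hs q) (hz p (by omega)) (hz q h2)
  rw [mul_inv_cancel_left, mul_inv_cancel_left] at this
  rw [mul_inv_eq_one, commLift, hp, hq, ← this, mul_inv_cancel_left]

include hF e hs hc in
/-- A subgroup of order at most two contains the kernel. -/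
theorem exists_delta (hd : σ.ker ≤ commutator Γ) :
    ∃ δ ∈ σ.ker, δ * δ = 1 ∧ σ.ker ≤ Subgroup.zpowers δ := by
  have hR := rels_liftY hF e hs hc
  obtain ⟨h2, hmem⟩ := values_two hR fun r hr => gauge_one hF e hs hc hr
  set δ : Γ := (relZ e hs 177 : Γ) with hδ
  have hδk : δ ∈ σ.ker := by
    rw [hδ, show 177 = 48 * 3 + 33 from rfl, relZ_coe hF e hs hc (by norm_num) (by norm_num) (by norm_num)]
    exact relVal_mem hF e hs hc (by norm_num) (by norm_num) (by norm_num)
  refine ⟨δ, hδk, by rw [hδ, ← Subgroup.coe_mul, h2, Subgroup.coe_one], ?_⟩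
  let N : Subgroup Γ := Subgroup.zpowers δ
  have hNc : N ≤ Subgroup.center Γ := Subgroup.zpowers_le.mpr (hc hδk)
  haveI : N.Normal := ⟨fun n hn g => by rwa [Subgroup.mem_center_iff.1 (hNc hn) g, mul_inv_cancel_right]⟩
  have hv : ∀ p q, p ≤ q → q < 48 → p + q ≠ 47 → relVal (liftY e hs) (48 * p + q) ∈ N := fun p q a b c => by
    obtain ⟨k, hk⟩ := Subgroup.mem_zpowers_iff.mp (hmem p q a b c)
    refine Subgroup.mem_zpowers_iff.mpr ⟨k, ?_⟩
    rw [hδ, ← Subgroup.coe_zpow, hk, relZ_coe hF e hs hc a b c]
  let y : ℕ → Γ ⧸ N := fun r => QuotientGroup.mk' N (liftY e hs r)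
  have ysq : ∀ r < 48, y r * y r = 1 := fun r hr => by
    have := hv r r le_rfl hr (by omega)
    rw [relVal, show (48 * r + r) / 48 = r by omega, show (48 * r + r) % 48 = r by omega, if_pos rfl] at this
    rw [show y r * y r = QuotientGroup.mk' N (liftY e hs r * liftY e hs r) from (map_mul _ _ _).symm]
    exact (QuotientGroup.eq_one_iff _).mpr this
  have ycomm : ∀ p q, p < q → q < 48 → p + q ≠ 47 → y q * y p = y p * y q * ((tw p q).map y).prod := by
    intro p q a b c
    have := (QuotientGroup.eq_one_iff (N := N) _).mpr (hv p q a.le b c)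
    rw [relVal, show (48 * p + q) / 48 = p by omega, show (48 * p + q) % 48 = q by omega, if_neg (by omega)] at this
    have h' : QuotientGroup.mk' N (liftY e hs q * liftY e hs p *
        (liftY e hs p * liftY e hs q * ((tw p q).map (liftY e hs)).prod)⁻¹) = 1 := this
    rw [map_mul, map_inv, mul_inv_eq_one, map_mul, map_mul, map_mul, map_list_prod, List.map_map] at h'
    exact h'
  classical
  obtain ⟨τ, hτ⟩ := exists_hom hF y ysq ycomm
  let π : Γ ⧸ N →* ↥(chevF4.group F) := QuotientGroup.lift N σ (Subgroup.zpowers_le.mpr hδk)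
  have hπ : ∀ x, π (τ x) = e x := by
    have : π.comp τ = e.toMonoidHom := by
      refine PresentedGroup.ext fun p => ?_
      have hp : (p.1 : ℕ) < 48 := p.1.isLt
      simp only [MonoidHom.comp_apply, MulEquiv.coe_toMonoidHom]
      have hof : (PresentedGroup.of p : tabF.D.SteinbergCover F) = Tab.Cov.sx tabF F p.1 p.2 := by
        have hp' : (p.1 : ℕ) < tabF.D.nroots := p.1.isLt
        simp [Tab.Cov.sx, ChevalleyDatum.scGen, ChevalleyDatum.stX, hp', PresentedGroup.of]
      rw [hof, hτ p.1 hp p.2]
      rcases card_two_cases hF p.2 with h0 | h0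
      · rw [h0, if_pos rfl, map_one, Tab.Cov.sx_zero F4Data.good]
        exact (map_one e).symm
      · rw [h0, if_neg (one_ne_zero (α := F))]
        exact map_liftY hF e hs hp
    exact DFunLike.congr_fun this
  have hπc : π.ker ≤ Subgroup.center (Γ ⧸ N) := by
    intro a ha
    obtain ⟨a, rfl⟩ := QuotientGroup.mk'_surjective N a
    refine Subgroup.mem_center_iff.mpr fun b => ?_
    obtain ⟨b, rfl⟩ := QuotientGroup.mk'_surjective N b
    rw [← map_mul, ← map_mul, Subgroup.mem_center_iff.1 (hc ha) b]
  have hle : commutator (Γ ⧸ N) ≤ τ.range := by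
    have hz : ∀ a, a * (τ (e.symm (π a)))⁻¹ ∈ Subgroup.center (Γ ⧸ N) := fun a => hπc (by
      rw [MonoidHom.mem_ker, map_mul, map_inv, hπ, MulEquiv.apply_symm_apply, mul_inv_cancel])
    rw [commutator_def, Subgroup.commutator_le]
    intro a _ b _
    have ha : a = a * (τ (e.symm (π a)))⁻¹ * τ (e.symm (π a)) := by group
    have hb : b = b * (τ (e.symm (π b)))⁻¹ * τ (e.symm (π b)) := by group
    rw [ha, hb, Tab.Cov.commutator_central_mul (hz a) (hz b), ← map_commutatorElement]
    exact ⟨_, rfl⟩
  intro k hk
  have hkc : QuotientGroup.mk' N k ∈ commutator (Γ ⧸ N) := by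
    have h := Subgroup.mem_map_of_mem (QuotientGroup.mk' N) (hd hk)
    rw [commutator_def, Subgroup.map_commutator] at h
    rw [commutator_def]
    exact Subgroup.commutator_mono le_top le_top h
  obtain ⟨c, hc'⟩ := hle hkc
  have h1 : e c = 1 := by rw [← hπ, hc']; exact hk
  rw [e.map_eq_one_iff.1 h1, map_one] at hc'
  exact (QuotientGroup.eq_one_iff k).mp hc'.symm

end Lifts

/-- The Schur multiplier of F4 over the field with two elements has at most two elements. -/
theorem card_multiplier_le {F : Type u} [Field F] [Fintype F] (hF : Fintype.card F = 2) :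
    Nat.card (Schur.Multiplier ↥(chevF4.group F)) ≤ 2 := by
  obtain ⟨e⟩ := exists_cover_equiv_group (F := F) (D := chevF4) (by simp)
  obtain ⟨Γ, _, _, σ, ⟨hs, hc, hd⟩, ⟨i⟩⟩ := (Schur.hasSchurMultiplier_multiplier (Q := ↥(chevF4.group F))).1
  obtain ⟨δ, -, h2, hle⟩ := exists_delta hF e hs hc hd
  rw [← Nat.card_congr i.toEquiv]
  refine (Subgroup.card_le_of_le hle).trans ?_
  rw [Nat.card_zpowers]
  refine orderOf_le_of_pow_eq_one two_pos ?_
  rw [pow_two, h2]

end Cfsg.Agent.F4Double
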