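import Mathlib.GroupTheory.QuotientGroup.Basic
import Cfsg.Agent.Lib.F4Double.Mat
import Cfsg.Agent.Lib.F4Double.MatData
import Cfsg.Agent.Lib.F4Double.Upper

/-!
Matrices of degree 52 over the field with five elements satisfy the relations up to sign and give a perfect
double cover of F4 over the field with two elements.
-/

set_option autoImplicit false
set_option maxRecDepth 100000
set_option Elab.async false

namespace Cfsg.Agent.F4Double

open Cfsg.Lie Cfsg.Agent.Chev
open scoped commutatorElement

universe u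

/-- The matrix of a root. -/
def rootM (r : ℕ) : ℕ := rootMats.getD r Mat.idM

/-- The negative of a packed matrix. -/
def negP (A : ℕ) : ℕ := Mat.reduce5 (Nat.mul 4 A)

/-- The product of a list of matrices. -/
def prodP : List ℕ → ℕ
  | [] => Mat.idM
  | r :: L => Mat.forceN (rootM r) fun A => Mat.forceN (prodP L) fun B => Mat.mulP A B

/-- The matrices are in normal form and involutions. -/
def squaresOK : Bool :=
  Mat.allLt (fun r => Mat.matOK (rootM r) && Nat.beq (Mat.mulP (rootM r) (rootM r)) Mat.idM) 48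

theorem squaresOK_eq : squaresOK = true := by decide +kernel

/-- The relation of `p`, `q` holds up to sign. -/
def pairOK (p q : ℕ) : Bool :=
  Mat.forceN (prodP [q, p]) fun L => Mat.forceN (prodP ([p, q] ++ tw p q)) fun R =>
    Nat.beq L R || Nat.beq L (negP R)

/-- All relations of a root with the later ones. -/
def rowOK (p : ℕ) : Bool :=
  Mat.allLt (fun q => !Nat.blt p q || Nat.beq (p + q) 47 || pairOK p q) 48

theorem rows0 : Mat.allLt (fun p => rowOK p) 6 = true := by decide +kernel

theorem rows1 : Mat.allLt (fun p => rowOK (6 + p)) 8 = true := by decide +kernel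

theorem rows2 : Mat.allLt (fun p => rowOK (14 + p)) 10 = true := by decide +kernel

theorem rows3 : Mat.allLt (fun p => rowOK (24 + p)) 24 = true := by decide +kernel

theorem pairOK_all {p q : ℕ} (hpq : p < q) (hq : q < 48) (hne : p + q ≠ 47) : pairOK p q = true := by
  have hp : p < 48 := by omega
  have hrow : rowOK p = true := by
    rcases lt_or_ge p 6 with h | h
    · exact Mat.allLt_spec rows0 p h
    rcases lt_or_ge p 14 with h1 | h1
    · have := Mat.allLt_spec rows1 (p - 6) (by omega)
      rwa [show 6 + (p - 6) = p by omega] at this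
    rcases lt_or_ge p 24 with h2 | h2
    · have := Mat.allLt_spec rows2 (p - 14) (by omega)
      rwa [show 14 + (p - 14) = p by omega] at this
    have := Mat.allLt_spec rows3 (p - 24) (by omega)
    rwa [show 24 + (p - 24) = p by omega] at this
  have := Mat.allLt_spec hrow q hq
  simpa [Nat.blt_eq.mpr hpq, Nat.beq_eq, hne] using this

theorem rootM_ok (r : ℕ) : Mat.matOK (rootM r) = true := by
  rcases lt_or_ge r 48 with h | h
  · have := Mat.allLt_spec squaresOK_eq r h
    simp only [Bool.and_eq_true] at this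
    exact this.1
  · rw [rootM, List.getD_eq_default _ _ (by simpa [rootMats] using h)]
    exact Mat.idM_ok

theorem rootM_sq {r : ℕ} (h : r < 48) : Mat.mulP (rootM r) (rootM r) = Mat.idM := by
  have := Mat.allLt_spec squaresOK_eq r h
  simp only [Bool.and_eq_true] at this
  exact Nat.eq_of_beq_eq_true this.2

attribute [local irreducible] rootM Mat.mulP Mat.idM Mat.toM

/-- The unit of a root. -/
noncomputable def rootU (r : ℕ) : Mat.M52ˣ :=
  if h : r < 48 then
    ⟨Mat.toM (rootM r), Mat.toM (rootM r),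
      by rw [← Mat.toM_mulP (rootM_ok r) (rootM_ok r), rootM_sq h, Mat.toM_idM],
      by rw [← Mat.toM_mulP (rootM_ok r) (rootM_ok r), rootM_sq h, Mat.toM_idM]⟩
  else 1

theorem rootU_val {r : ℕ} (h : r < 48) : (rootU r : Mat.M52) = Mat.toM (rootM r) := by
  rw [rootU, dif_pos h]

theorem rootU_sq {r : ℕ} (h : r < 48) : rootU r * rootU r = 1 := by
  refine Units.ext ?_
  rw [Units.val_mul, rootU_val h, ← Mat.toM_mulP (rootM_ok r) (rootM_ok r), rootM_sq h, Mat.toM_idM,
    Units.val_one]

theorem prodP_spec : ∀ L : List ℕ, (∀ r ∈ L, r < 48) →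
    Mat.matOK (prodP L) = true ∧ Mat.toM (prodP L) = (((L.map rootU).prod : Mat.M52ˣ) : Mat.M52) := by
  intro L
  induction L with
  | nil => intro _; exact ⟨Mat.idM_ok, by rw [prodP, Mat.toM_idM]; rfl⟩
  | cons r L ih =>
    intro h
    obtain ⟨h1, h2⟩ := ih fun x hx => h x (List.mem_cons_of_mem _ hx)
    rw [prodP, Mat.forceN_eq, Mat.forceN_eq]
    refine ⟨Mat.mulP_matOK (rootM_ok r) h1, ?_⟩
    rw [Mat.toM_mulP (rootM_ok r) h1, h2, List.map_cons, List.prod_cons, Units.val_mul,
      rootU_val (h r List.mem_cons_self)]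

theorem negP_spec {A : ℕ} (hA : Mat.matOK A = true) :
    Mat.matOK (negP A) = true ∧ Mat.toM (negP A) = -Mat.toM A := by
  obtain ⟨a1, a2⟩ := Mat.matOK_spec hA
  have e : negP A = Mat.packF (fun k => 4 * Mat.lane A k % 5) Mat.nEnt := by
    conv_lhs => rw [negP, ← Mat.packF_lane Mat.nEnt A a1]
    rw [Nat.mul_eq, Mat.mul_packF]
    refine Mat.reduce5_eq fun k hk => ?_
    have := a2 k hk
    omega
  refine ⟨?_, ?_⟩
  · rw [e]
    exact Mat.matOK_packF fun k _ => Nat.mod_lt _ (by omega)
  · ext i j
    have hi := i.2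
    have hj := j.2
    unfold Mat.toM
    show ((Mat.lane (negP A) (52 * (i : ℕ) + (j : ℕ)) : ℕ) : ZMod 5) =
      -((Mat.lane A (52 * (i : ℕ) + (j : ℕ)) : ℕ) : ZMod 5)
    rw [e, Mat.lane_packF (fun k _ => by omega) _ (show _ < Mat.nEnt from by show _ < 2704; omega),
      ZMod.natCast_mod, Nat.cast_mul]
    have h5 : ((4 : ℕ) : ZMod 5) = -1 := by decide
    rw [h5, neg_one_mul]

/-- The scalars one and minus one. -/
def signs : Subgroup Mat.M52ˣ := Subgroup.zpowers (-1)

theorem signs_le : signs ≤ Subgroup.center Mat.M52ˣ :=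
  Subgroup.zpowers_le.mpr (Subgroup.mem_center_iff.mpr fun g => by simp)

instance signs_normal : signs.Normal :=
  ⟨fun n hn g => by rwa [Subgroup.mem_center_iff.1 (signs_le hn) g, mul_inv_cancel_right]⟩

/-- The image of a root element modulo signs. -/
noncomputable def rootQ (r : ℕ) : Mat.M52ˣ ⧸ signs := QuotientGroup.mk' signs (rootU r)

theorem rootQ_sq : ∀ r < 48, rootQ r * rootQ r = 1 := fun r hr => by
  rw [rootQ, ← map_mul, rootU_sq hr, map_one]

theorem rootQ_comm : ∀ p q, p < q → q < 48 → p + q ≠ 47 →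
    rootQ q * rootQ p = rootQ p * rootQ q * ((tw p q).map rootQ).prod := by
  intro p q hpq hq hne
  have h := pairOK_all hpq hq hne
  have ht : ∀ u ∈ tw p q, u < 48 := by
    have h := List.all_eq_true.mp (List.all_eq_true.mp termsOK_eq p (List.mem_range.mpr (by omega))) q
      (List.mem_range.mpr hq)
    simp only [Bool.or_eq_true, Bool.and_eq_true, Bool.not_eq_true', ← Bool.not_eq_true, Nat.blt_eq, Nat.beq_eq,
      decide_eq_true_eq, List.all_eq_true] at h
    exact (h.resolve_left (by simp [hpq, hne])).1.2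
  obtain ⟨-, l2⟩ := prodP_spec [q, p] (by
    intro r hr
    simp only [List.mem_cons, List.not_mem_nil, or_false] at hr
    rcases hr with rfl | rfl <;> omega)
  obtain ⟨r1, r2⟩ := prodP_spec ([p, q] ++ tw p q) (by
    intro r hr
    simp only [List.cons_append, List.nil_append, List.mem_cons] at hr
    rcases hr with rfl | rfl | hr
    · omega
    · omega
    · exact ht r hr)
  simp only [pairOK, Mat.forceN_eq, Bool.or_eq_true, Nat.beq_eq] at h
  have e : ([q, p].map rootU).prod = (([p, q] ++ tw p q).map rootU).prod ∨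
      ([q, p].map rootU).prod = -(([p, q] ++ tw p q).map rootU).prod := by
    rcases h with h | h
    · exact Or.inl (Units.ext (by rw [← l2, h, r2]))
    · exact Or.inr (Units.ext (by rw [← l2, h, (negP_spec r1).2, r2, Units.val_neg]))
  have hm : ∀ L : List ℕ, (L.map rootQ).prod = QuotientGroup.mk' signs ((L.map rootU).prod) := fun L => by
    rw [map_list_prod, List.map_map]
    rfl
  have e2 : ([q, p].map rootQ).prod = (([p, q] ++ tw p q).map rootQ).prod := by
    rw [hm, hm]
    rcases e with e | e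
    · rw [e]
    · rw [e, show ∀ x : Mat.M52ˣ, -x = -1 * x from fun x => (neg_one_mul x).symm, map_mul,
        show QuotientGroup.mk' signs (-1) = 1 from (QuotientGroup.eq_one_iff _).mpr (Subgroup.mem_zpowers _),
        one_mul]
  simpa [mul_assoc] using e2

/-- Three commutators multiply to minus one. -/
def negCheck : Bool :=
  Nat.beq (prodP [29, 0, 29, 0]) (negP (prodP [14, 7, 14, 7, 32, 1, 32, 1]))

theorem negCheck_eq : negCheck = true := by decide +kernel

theorem tw_neg : tw 0 29 = [3, 6] ∧ tw 7 14 = [3] ∧ tw 1 32 = [6] := by decide +kernel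

/-- A perfect double cover. -/
theorem exists_double_cover {F : Type u} [Field F] [Fintype F] (hF : Fintype.card F = 2) :
    ∃ (X : Type u) (_ : Group X) (ξ : X →* ↥(chevF4.group F)),
      Function.Surjective ξ ∧ ξ.ker ≤ Subgroup.center X ∧ ξ.ker ⊓ commutator X ≠ ⊥ := by
  classical
  obtain ⟨e⟩ : Nonempty (tabF.D.SteinbergCover F ≃* ↥(chevF4.group F)) :=
    exists_cover_equiv_group (F := F) (D := chevF4) (by simp)
  obtain ⟨τ, hτ⟩ := exists_hom hF rootQ rootQ_sq rootQ_comm
  let ψ : ↥(chevF4.group F) →* Mat.M52ˣ ⧸ signs := τ.comp e.symm.toMonoidHom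
  let X : Subgroup (↥(chevF4.group F) × Mat.M52ˣ) :=
    MonoidHom.eqLocus (ψ.comp (MonoidHom.fst _ _)) ((QuotientGroup.mk' signs).comp (MonoidHom.snd _ _))
  have hX : ∀ x : ↥(chevF4.group F) × Mat.M52ˣ, x ∈ X ↔ ψ x.1 = QuotientGroup.mk' signs x.2 := fun _ => Iff.rfl
  refine ⟨↥X, inferInstance, (MonoidHom.fst _ _).comp X.subtype, ?_, ?_, ?_⟩
  · intro g
    obtain ⟨m, hm⟩ := QuotientGroup.mk'_surjective signs (ψ g)
    exact ⟨⟨(g, m), (hX _).mpr hm.symm⟩, rfl⟩
  · rintro ⟨⟨g, m⟩, hx⟩ hk
    have hg : g = 1 := hk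
    subst hg
    have hm : m ∈ signs := (QuotientGroup.eq_one_iff m).mp (by
      have := (hX _).mp hx
      rw [map_one] at this
      exact this.symm)
    refine Subgroup.mem_center_iff.mpr fun y => Subtype.ext (Prod.ext ?_ ?_)
    · show (y.1.1 : ↥(chevF4.group F)) * 1 = 1 * y.1.1
      rw [mul_one, one_mul]
    · exact Subgroup.mem_center_iff.1 (signs_le hm) y.1.2
  · have hgen : ∀ r, r < 48 → ((e (Tab.Cov.sx tabF F r 1) : ↥(chevF4.group F)), rootU r) ∈ X := fun r hr => by
      rw [hX]
      show τ (e.symm (e (Tab.Cov.sx tabF F r 1))) = _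
      rw [MulEquiv.symm_apply_apply, hτ r hr 1, if_neg one_ne_zero]
      rfl
    let a : ℕ → ↥X := fun r => if h : r < 48 then ⟨_, hgen r h⟩ else 1
    have ha2 : ∀ r, r < 48 → (a r : ↥(chevF4.group F) × Mat.M52ˣ).2 = rootU r := fun r hr => by
      simp [a, dif_pos hr]
    have ha1 : ∀ r, r < 48 → (a r)⁻¹ = a r := fun r hr => by
      refine inv_eq_of_mul_eq_one_left ?_
      simp only [a, dif_pos hr]
      refine Subtype.ext (Prod.ext ?_ ?_)
      · exact xi_sq hF e
      · exact rootU_sq hr
    let k : ↥X := ⁅a 29, a 0⁆ * (⁅a 14, a 7⁆ * ⁅a 32, a 1⁆)⁻¹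
    have hk : k ∈ commutator ↥X := by
      rw [commutator_def]
      refine mul_mem (Subgroup.commutator_mem_commutator trivial trivial) (inv_mem (mul_mem ?_ ?_)) <;>
        exact Subgroup.commutator_mem_commutator trivial trivial
    have hk2 : (k : ↥(chevF4.group F) × Mat.M52ˣ).2 = -1 := by
      have h := negCheck_eq
      simp only [negCheck, Nat.beq_eq] at h
      obtain ⟨-, l2⟩ := prodP_spec [29, 0, 29, 0] (by decide)
      obtain ⟨r1, r2⟩ := prodP_spec [14, 7, 14, 7, 32, 1, 32, 1] (by decide)
      have e1 : ([29, 0, 29, 0].map rootU).prod = -([14, 7, 14, 7, 32, 1, 32, 1].map rootU).prod :=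
        Units.ext (by rw [← l2, h, (negP_spec r1).2, r2, Units.val_neg])
      simp only [List.map_cons, List.map_nil, List.prod_cons, List.prod_nil, mul_one] at e1
      simp only [k, commutatorElement_def, ha1 0 (by norm_num), ha1 29 (by norm_num), ha1 7 (by norm_num),
        ha1 14 (by norm_num), ha1 1 (by norm_num), ha1 32 (by norm_num), Subgroup.coe_mul, Subgroup.coe_inv,
        Prod.snd_mul, Prod.snd_inv, ha2 0 (by norm_num), ha2 29 (by norm_num), ha2 7 (by norm_num),
        ha2 14 (by norm_num), ha2 1 (by norm_num), ha2 32 (by norm_num)]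
      rw [mul_inv_eq_iff_eq_mul, neg_one_mul]
      simpa [mul_assoc] using e1
    have hk1 : (k : ↥(chevF4.group F) × Mat.M52ˣ).1 = 1 := by
      have hc : ∀ p q, p < q → q < 48 → p + q ≠ 47 →
          (⁅a q, a p⁆ : ↥X).1.1 = ((tw p q).map (xi e)).prod := by
        intro p q hpq hq hne
        have hp : p < 48 := by omega
        have hx : ∀ r, r < 48 → (a r).1.1 = xi e r := fun r hr => by simp [a, dif_pos hr, xi]
        simp only [commutatorElement_def, ha1 p hp, ha1 q hq, Subgroup.coe_mul, Prod.fst_mul, hx p hp, hx q hq]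
        have hinv : ∀ r, (xi e r)⁻¹ = xi e r := fun r => inv_eq_of_mul_eq_one_left (xi_sq hF e)
        have h := xi_comm hF e hpq hq hne
        calc xi e q * xi e p * xi e q * xi e p = xi e q * xi e p * (xi e q * xi e p) := mul_assoc _ _ _
          _ = (xi e p * xi e q)⁻¹ * (xi e q * xi e p) := by rw [mul_inv_rev, hinv, hinv]
          _ = ((tw p q).map (xi e)).prod := by rw [h, inv_mul_cancel_left]
      simp only [k, Subgroup.coe_mul, Subgroup.coe_inv, Prod.fst_mul, Prod.fst_inv,
        hc 0 29 (by norm_num) (by norm_num) (by norm_num), hc 7 14 (by norm_num) (by norm_num) (by norm_num),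
        hc 1 32 (by norm_num) (by norm_num) (by norm_num), tw_neg.1, tw_neg.2.1, tw_neg.2.2]
      simp
    intro hbot
    have hmem : k ∈ ((MonoidHom.fst _ _).comp X.subtype).ker ⊓ commutator ↥X := ⟨hk1, hk⟩
    rw [hbot, Subgroup.mem_bot] at hmem
    have h1 : (-1 : Mat.M52ˣ) = 1 := by rw [← hk2, hmem]; rfl
    have h2 := congrFun (congrFun (congrArg (fun u : Mat.M52ˣ => (u : Mat.M52)) h1) 0) 0
    simp only [Units.val_neg, Units.val_one, Matrix.neg_apply, Matrix.one_apply_eq] at h2
    exact absurd h2 (by decide)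

end Cfsg.Agent.F4Double
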